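import Cfsg.Agent.Lib.FieldAut.Classes

/-!
# Tools for the classical instances

* `mem_scalars_of_eigen` : every vector an eigenvector → scalar.
* `exists_twist_of_scalar` : scalar norm → `g = a k σ(k)⁻¹`.
* `exists_mapGL_of_twist` : fixed up to scalars → scalar multiple of a matrix over the fixed field.
* `exists_fixed_multiple` : a nonzero matrix fixed up to a scalar has a fixed multiple.
* `inn_eq_conjAut`, `inn_le_range`, `gamma_le_normalizer`.
* `order_data` : `r ∣ f` and the fixed field has `p ^ (f / r)` elements.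
* `index_pow_sup`, `gcd_two_geom` : index of `n`-th powers times a subgroup in a cyclic group.
-/

set_option autoImplicit false

namespace Cfsg.Agent.FieldAut

open scoped MatrixGroups Matrix

variable {ι : Type} [Fintype ι] [DecidableEq ι] {F : Type*} [Field F]

theorem mem_scalars_of_eigen (g : GL ι F)
    (h : ∀ v : ι → F, v ≠ 0 → ∃ a : F, (g : Matrix ι ι F) *ᵥ v = a • v) :
    g ∈ Cfsg.Geo.scalars ι F := by
  rcases isEmpty_or_nonempty ι with he | ⟨⟨i₀⟩⟩
  · exact ⟨1, Units.ext (by ext i; exact isEmptyElim i)⟩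
  have hb : ∀ j, ∃ a : F, (g : Matrix ι ι F) *ᵥ Pi.single j 1 = a • Pi.single j 1 := fun j =>
    h _ (by simp)
  choose a ha using hb
  have hentry : ∀ i j, (g : Matrix ι ι F) i j = if i = j then a j else 0 := by
    intro i j
    have := congrFun (ha j) i
    rw [Matrix.mulVec_single_one] at this
    simpa [Pi.single_apply] using this
  have hconst : ∀ j, a j = a i₀ := by
    intro j
    rcases eq_or_ne j i₀ with rfl | hj
    · rfl
    obtain ⟨c, hc⟩ := h (Pi.single j 1 + Pi.single i₀ 1) (fun h0 => by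
      simpa [hj] using congrFun h0 j)
    rw [Matrix.mulVec_add, ha, ha] at hc
    have h1 := congrFun hc j
    have h2 := congrFun hc i₀
    simp [hj, hj.symm] at h1 h2
    rw [h1, h2]
  have : Nonempty ι := ⟨i₀⟩
  have hne : a i₀ ≠ 0 := fun h0 => by
    have hz : (g : Matrix ι ι F) = 0 := by
      ext i j; rw [hentry]; split_ifs <;> simp [hconst, h0]
    exact g.ne_zero hz
  refine (Cfsg.Geo.mem_scalars_iff g).2 ⟨Units.mk0 _ hne, ?_⟩
  ext i j
  rw [hentry]
  split_ifs with hij <;> simp [hij, hconst]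

theorem twVec_smul (σ : F ≃+* F) (g : GL ι F) (c : F) (v : ι → F) :
    twVec σ g (c • v) = σ c • twVec σ g v := by
  have h : (fun i => σ ((c • v) i)) = σ c • fun i => σ (v i) := by
    funext i; simp
  rw [twVec, h, Matrix.mulVec_smul]; rfl

/-- A scalar norm is fixed by `σ`. -/
theorem scalar_norm_fixed [Nonempty ι] {σ : F ≃+* F} {r : ℕ} (hσ : orderOf σ = r) {g : GL ι F}
    {z : Fˣ} (hz : twNorm σ r g = scal z) : σ z = z := by
  have hσr : σ ^ r = 1 := by
    have := pow_orderOf_eq_one σ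
    rwa [hσ] at this
  obtain ⟨i⟩ := (inferInstance : Nonempty ι)
  have hit : ∀ v, (twVec σ g)^[r] v = (z : F) • v := fun v => by
    rw [twVec_iterate, hz, hσr, scal_coe, Matrix.smul_mulVec, Matrix.one_mulVec]; rfl
  set v : ι → F := Pi.single i 1 with hv
  have h1 : (twVec σ g)^[r] (twVec σ g v) = twVec σ g ((twVec σ g)^[r] v) :=
    (Function.Commute.iterate_self (twVec σ g) r) v
  rw [hit, hit, twVec_smul] at h1
  have hne : twVec σ g v ≠ 0 := by
    intro h0
    have h2 := congrArg (fun w => ((g⁻¹ : GL ι F) : Matrix ι ι F) *ᵥ w) h0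
    simp only [twVec, Matrix.mulVec_mulVec, ← Units.val_mul, inv_mul_cancel, Units.val_one,
      Matrix.one_mulVec, Matrix.mulVec_zero] at h2
    simpa [hv] using congrFun h2 i
  exact (smul_left_injective F hne h1).symm

theorem exists_twist_of_scalar [Finite F] [Nonempty ι] {σ : F ≃+* F} {r : ℕ} (hσ : orderOf σ = r)
    (hr : 0 < r) {g : GL ι F} {z : Fˣ} (hz : twNorm σ r g = scal z) :
    ∃ (a : Fˣ) (k : GL ι F), g = scal a * (k * (galGL σ k)⁻¹) := by
  obtain ⟨a, ha⟩ := exists_norm_eq_fixed hσ hr (scalar_norm_fixed hσ hz)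
  have h1 : twNorm σ r (scal a⁻¹ * g) = 1 := by
    rw [twNorm_scal_mul, hz, map_inv, map_inv, ha, inv_mul_cancel]
  obtain ⟨k, hk⟩ := exists_eq_twist hσ hr h1
  exact ⟨a, k, by rw [← hk, ← mul_assoc, ← map_mul, mul_inv_cancel, map_one, one_mul]⟩

theorem iterate_scalar {σ : F ≃+* F} {c : Fˣ} {x : F} (hx : σ x = c * x) (n : ℕ) :
    (σ ^ n) x = normU σ n c * x := by
  induction n with
  | zero => simp [normU]
  | succ n ih =>
    rw [pow_succ', RingAut.mul_apply, ih, map_mul, hx, normU, normU]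
    simp only [MonoidHom.finsetProd_apply, Units.coe_prod, map_prod, Units.coe_map]
    rw [Finset.prod_range_succ', ← mul_assoc]
    congr 1
    congr 1
    any_goals simp
    refine Finset.prod_congr rfl fun i _ => ?_
    exact ((Function.Commute.iterate_self (σ : F → F) i) (c : F)).symm

/-- A nonzero vector of scalars fixed up to one scalar has a fixed multiple. -/
theorem exists_fixed_multiple {α : Type*} {σ : F ≃+* F} {r : ℕ} (hσ : orderOf σ = r) (hr : 0 < r)
    {x : α → F} (hne : ∃ i, x i ≠ 0) {c : Fˣ} (hc : ∀ i, σ (x i) = c * x i) :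
    ∃ d : Fˣ, c = (Units.map σ.toMonoidHom d) * d⁻¹ ∧ ∀ i, σ ((d⁻¹ : Fˣ) * x i) = (d⁻¹ : Fˣ) * x i := by
  obtain ⟨i₀, hi₀⟩ := hne
  have h1 := iterate_scalar (hc i₀) r
  rw [show (σ ^ r) = 1 by rw [← hσ, pow_orderOf_eq_one]] at h1
  have hN : normU σ r c = 1 := by
    refine Units.ext ((mul_eq_right₀ hi₀).1 ?_)
    exact h1.symm
  obtain ⟨d, hd⟩ := exists_units_eq_twist hσ hr hN
  refine ⟨d⁻¹, by rw [map_inv, inv_inv, mul_comm, hd], fun i => ?_⟩
  rw [inv_inv, map_mul, hc, hd]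
  have hσd : σ (d : F) ≠ 0 := by simp
  push_cast
  simp only [Units.val_inv_eq_inv_val, Units.coe_map]
  show σ (d : F) * (d * (σ (d : F))⁻¹ * x i) = d * x i
  field_simp

theorem exists_mapGL_of_twist [Nonempty ι] {σ : F ≃+* F} {r : ℕ} (hσ : orderOf σ = r) (hr : 0 < r)
    {F₀ : Type*} [Field F₀] (e : F₀ →+* F) (he : ∀ x, σ x = x → x ∈ Set.range e) {g : GL ι F}
    {a : Fˣ} (ha : galGL σ g = scal a * g) :
    ∃ (g₀ : GL ι F₀) (b : Fˣ), g = scal b * mapGL e g₀ := by
  have hc : ∀ p : ι × ι, σ ((g : Matrix ι ι F) p.1 p.2) = a * (g : Matrix ι ι F) p.1 p.2 := by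
    intro p
    have := congrArg (fun x : GL ι F => (x : Matrix ι ι F) p.1 p.2) ha
    simpa [scal_coe, Matrix.mul_apply, Matrix.one_apply] using this
  have hne : ∃ p : ι × ι, (g : Matrix ι ι F) p.1 p.2 ≠ 0 := by
    by_contra! h
    exact g.ne_zero (Matrix.ext fun i j => h (i, j))
  obtain ⟨d, -, hd⟩ := exists_fixed_multiple hσ hr hne hc
  choose m hm using fun p : ι × ι => he _ (hd p)
  let M : Matrix ι ι F₀ := Matrix.of fun i j => m (i, j)
  have hM : M.map e = ((scal d⁻¹ * g : GL ι F) : Matrix ι ι F) := by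
    ext i j
    rw [Matrix.map_apply, Units.val_mul, scal_coe, smul_mul_assoc, one_mul]
    exact hm (i, j)
  have hdet : IsUnit M.det := by
    rw [isUnit_iff_ne_zero]
    intro h0
    refine (scal d⁻¹ * g : GL ι F).det_ne_zero ?_
    rw [← hM]
    show (e.mapMatrix M).det = 0
    rw [← RingHom.map_det, h0, map_zero]
  refine ⟨((Matrix.isUnit_iff_isUnit_det M).2 hdet).unit, d, ?_⟩
  have hmap : mapGL e ((Matrix.isUnit_iff_isUnit_det M).2 hdet).unit = scal d⁻¹ * g :=
    Units.ext (by rw [mapGL_coe, IsUnit.unit_spec]; exact hM)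
  rw [hmap, ← mul_assoc, ← map_mul, mul_inv_cancel, map_one, one_mul]

section Carrier

variable {H : Type*} [Group H] {mat : H →* GL ι F}

theorem conj_mat_mem_keep (h : H) : MulAut.conj (mat h) ∈ keep mat := by
  intro x
  rw [MulAut.conj_apply]
  constructor
  · intro hx
    have := mul_mem (mul_mem (inv_mem (⟨h, rfl⟩ : mat h ∈ mat.range)) hx) ⟨h, rfl⟩
    simpa [mul_assoc] using this
  · intro hx
    exact mul_mem (mul_mem ⟨h, rfl⟩ hx) (inv_mem ⟨h, rfl⟩)

theorem inn_eq_conjAut (hinj : Function.Injective mat) (S : Subgroup (GL ι F))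
    (hS : ∀ g ∈ S, MulAut.conj g ∈ keep mat) (h : H) (hh : mat h ∈ S) :
    conjAut hinj S hS ⟨mat h, hh⟩ = MulAut.conj (QuotientGroup.mk h : H ⧸ Subgroup.center H) := by
  rw [conjAut_apply]
  refine ((isInd_iff hinj _).1 fun a a' ha => ?_).symm
  have : a' = h * a * h⁻¹ := hinj (by rw [ha, map_mul, map_mul, map_inv, MulAut.conj_apply])
  rw [this]; rfl

theorem inn_le_range (hinj : Function.Injective mat) (S : Subgroup (GL ι F))
    (hS : ∀ g ∈ S, MulAut.conj g ∈ keep mat) (hmat : ∀ h, mat h ∈ S) :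
    Cfsg.Inn (H ⧸ Subgroup.center H) ≤ (conjAut hinj S hS).range := by
  rintro _ ⟨x, rfl⟩
  obtain ⟨h, rfl⟩ := QuotientGroup.mk_surjective x
  exact ⟨⟨mat h, hmat h⟩, inn_eq_conjAut hinj S hS h (hmat h)⟩

theorem conjAut_mem_inn_iff [Nonempty ι] (hr : Rigid mat) (S : Subgroup (GL ι F))
    (hS : ∀ g ∈ S, MulAut.conj g ∈ keep mat) (hmat : ∀ h, mat h ∈ S) (g : S) :
    conjAut hr.inj S hS g ∈ Cfsg.Inn (H ⧸ Subgroup.center H) ↔
      ∃ (a : Fˣ) (h : H), g.1 = scal a * mat h := by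
  constructor
  · rintro ⟨x, hx⟩
    obtain ⟨h, rfl⟩ := QuotientGroup.mk_surjective x
    rw [← inn_eq_conjAut hr.inj S hS h (hmat h)] at hx
    have h1 : conjAut hr.inj S hS (g * (⟨mat h, hmat h⟩ : S)⁻¹) = 1 := by
      rw [map_mul, map_inv, hx, mul_inv_cancel]
    rw [conjAut_apply, conjAut_eq_one_iff hr] at h1
    obtain ⟨a, ha⟩ := h1
    refine ⟨a, h, ?_⟩
    rw [show (scal a : GL ι F) = g.1 * (mat h)⁻¹ from ha, inv_mul_cancel_right]
  · rintro ⟨a, h, e⟩
    refine ⟨QuotientGroup.mk h, ?_⟩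
    rw [← inn_eq_conjAut hr.inj S hS h (hmat h), conjAut_apply, conjAut_apply]
    congr 1
    refine Subtype.ext (MulEquiv.ext fun x => ?_)
    show mat h * x * (mat h)⁻¹ = g.1 * x * g.1⁻¹
    rw [e, mul_inv_rev, scal_comm]
    have hx : scal a * x * (scal a : GL ι F)⁻¹ = x := by rw [scal_comm, mul_inv_cancel_right]
    calc mat h * x * (mat h)⁻¹ = mat h * (scal a * x * (scal a)⁻¹) * (mat h)⁻¹ := by rw [hx]
      _ = mat h * scal a * x * ((mat h)⁻¹ * (scal a)⁻¹) := by
          rw [← map_inv scal a, ← scal_comm a⁻¹ ((mat h)⁻¹)]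
          group

theorem gamma_le_normalizer (hinj : Function.Injective mat) (S : Subgroup (GL ι F))
    (hS : ∀ g ∈ S, MulAut.conj g ∈ keep mat)
    (P : (H ⧸ Subgroup.center H ≃* H ⧸ Subgroup.center H) → Prop)
    (hP : ∀ β, P β → ∃ ψ : keep mat, (∀ g, ψ.1 g ∈ S ↔ g ∈ S) ∧ IsInd mat ψ.1 β) :
    Cfsg.autSubgroupOf P ≤ Subgroup.normalizer
      ((conjAut hinj S hS).range : Set (MulAut (H ⧸ Subgroup.center H))) := by
  refine (Subgroup.closure_le _).2 fun β hβ => ?_
  obtain ⟨ψ, hψS, hψ⟩ := hP β hβ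
  rw [(isInd_iff hinj ψ.2).1 hψ]
  exact range_conjAut_normalized hinj S hS ψ hψS

end Carrier

theorem order_data [Fintype F] {p f : ℕ} (hp : p.Prime) (hF : Fintype.card F = p ^ f)
    {σ : F ≃+* F} {r : ℕ} (hσ : orderOf σ = r) (hr : 0 < r) :
    r ∣ f ∧ (p ^ (f / r)) ^ r = Nat.card F ∧ Nat.card (fixF σ) = p ^ (f / r) := by
  have h := pow_card_fixed σ hσ
  have hcard : Nat.card F = p ^ f := by rw [Nat.card_eq_fintype_card, hF]
  rw [hcard] at h
  obtain ⟨k, -, hk⟩ := (Nat.dvd_prime_pow hp).1 (h ▸ dvd_pow_self (Nat.card (fixF σ)) hr.ne')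
  rw [hk, ← pow_mul] at h
  have hf : k * r = f := Nat.pow_right_injective hp.two_le h
  have hdiv : f / r = k := by rw [← hf, Nat.mul_div_cancel _ hr]
  exact ⟨⟨k, by rw [← hf, mul_comm]⟩, by rw [hdiv, ← pow_mul, hf, hcard], by rw [hdiv, hk]⟩

theorem index_pow_sup {A : Type*} [CommGroup A] [Finite A] [IsCyclic A] (K : Subgroup A) (n : ℕ) :
    ((powMonoidHom n : A →* A).range ⊔ K).index = Nat.gcd K.index n := by
  have hc : IsCyclic (A ⧸ K) := isCyclic_of_surjective _ (QuotientGroup.mk'_surjective K)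
  have hmap : (powMonoidHom n : A →* A).range.map (QuotientGroup.mk' K)
      = (powMonoidHom n : A ⧸ K →* A ⧸ K).range := by
    ext x
    constructor
    · rintro ⟨_, ⟨a, rfl⟩, rfl⟩; exact ⟨QuotientGroup.mk a, rfl⟩
    · rintro ⟨y, rfl⟩
      obtain ⟨a, rfl⟩ := QuotientGroup.mk_surjective y
      exact ⟨a ^ n, ⟨a, rfl⟩, rfl⟩
  calc ((powMonoidHom n : A →* A).range ⊔ K).index
      = ((powMonoidHom n : A →* A).range.map (QuotientGroup.mk' K)).index := by
        rw [Subgroup.index_map, MonoidHom.range_eq_top.2 (QuotientGroup.mk'_surjective K),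
          Subgroup.index_top, mul_one, QuotientGroup.ker_mk']
    _ = _ := by rw [hmap, IsCyclic.index_powMonoidHom_range]; rfl

theorem gcd_two_geom {p f r i : ℕ} (hp : p.Prime) (hr : r ∣ f) (hr0 : 0 < r) (hf : 0 < f)
    (hi : i * (p ^ (f / r) - 1) = p ^ f - 1) :
    Nat.gcd i 2 = Nat.gcd (Nat.gcd 2 (p ^ f - 1)) r := by
  have hfr : 0 < f / r := Nat.div_pos (Nat.le_of_dvd hf hr) hr0
  have hQ : 2 ≤ p ^ (f / r) := le_trans hp.two_le (Nat.le_self_pow hfr.ne' p)
  have hi' : i = ∑ j ∈ Finset.range r, (p ^ (f / r)) ^ j := by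
    rw [Nat.geomSum_eq hQ, ← pow_mul, Nat.div_mul_cancel hr, ← hi,
      Nat.mul_div_cancel _ (by omega)]
  rcases hp.eq_two_or_odd with rfl | hp2
  · have hodd : (2 ^ f - 1) % 2 = 1 := by
      have : 2 ∣ 2 ^ f := dvd_pow_self 2 hf.ne'
      have := Nat.one_le_two_pow (n := f)
      omega
    have h1 : i % 2 = 1 := by
      rw [← hi, Nat.mul_mod] at hodd
      rcases Nat.mod_two_eq_zero_or_one i with h | h
      · simp [h] at hodd
      · exact h
    rw [Nat.gcd_comm i, Nat.gcd_rec 2 i, h1, Nat.gcd_rec 2 (2 ^ f - 1), hodd]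
    simp
  · have hpf : (p ^ f - 1) % 2 = 0 := by
      have : p ^ f % 2 = 1 := by rw [Nat.pow_mod, hp2, one_pow]; rfl
      omega
    have h1 : i % 2 = r % 2 := by
      rw [hi', Finset.sum_nat_mod]
      simp [Nat.pow_mod, hp2]
    rw [Nat.gcd_comm i, Nat.gcd_rec 2 i, h1, ← Nat.gcd_rec,
      Nat.gcd_eq_left (Nat.dvd_of_mod_eq_zero hpf)]

end Cfsg.Agent.FieldAut
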