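import Cfsg.Agent.EqLemmas

/-!
# Galois descent for `GL_n` over a finite field

For an automorphism `σ` of order `r` of a finite field `F`:
* `galGL` : entrywise action on `GL ι F`, a homomorphism `(F ≃+* F) →* MulAut (GL ι F)`.
* `twNorm σ r g` : the product `g σ(g) ⋯ σ^{r-1}(g)`; `conjGal_pow`.
* `exists_eq_twist` : `g σ(g) ⋯ = 1 → g = k σ(k)⁻¹` (nonabelian Hilbert 90).
* `exists_units_eq_twist`, `exists_norm_eq_fixed` : scalar Hilbert 90, surjectivity of the norm.
* `pow_card_fixed`, `exists_embedding_fixed` : the fixed field of `σ`.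
-/

set_option autoImplicit false

namespace Cfsg.Agent.FieldAut

open Matrix
open scoped MatrixGroups

variable {ι : Type} [Fintype ι] [DecidableEq ι] {F : Type*} [Field F]

/-- The entrywise action of a field automorphism on the general linear group. -/
def galGL : (F ≃+* F) →* MulAut (GL ι F) where
  toFun σ := Units.mapEquiv (σ.mapMatrix.toMulEquiv)
  map_one' := by ext g i j; rfl
  map_mul' σ τ := by ext g i j; rfl

@[simp] theorem galGL_apply_coe (σ : F ≃+* F) (g : GL ι F) :
    ((galGL σ g : GL ι F) : Matrix ι ι F) = (g : Matrix ι ι F).map σ := rfl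

theorem galGL_apply (σ : F ≃+* F) (g : GL ι F) (i j : ι) :
    ((galGL σ g : GL ι F) : Matrix ι ι F) i j = σ ((g : Matrix ι ι F) i j) := rfl

/-- The product `g σ(g) ⋯ σ^{r-1}(g)`. -/
def twNorm (σ : F ≃+* F) : ℕ → GL ι F → GL ι F
  | 0, _ => 1
  | r + 1, g => g * galGL σ (twNorm σ r g)

theorem conjGal_pow (σ : F ≃+* F) (g : GL ι F) (r : ℕ) :
    (MulAut.conj g * galGL σ) ^ r = MulAut.conj (twNorm σ r g) * galGL (σ ^ r) := by
  induction r with
  | zero => simp [twNorm]
  | succ r ih =>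
    rw [pow_succ', ih, twNorm, map_mul MulAut.conj, pow_succ' σ, map_mul galGL]
    ext1 x
    simp [mul_assoc, MulAut.mul_apply]

/-- `g` composed with the entrywise action, as a map on vectors. -/
def twVec (σ : F ≃+* F) (g : GL ι F) (v : ι → F) : ι → F :=
  (g : Matrix ι ι F) *ᵥ fun i => σ (v i)

theorem twVec_iterate (σ : F ≃+* F) (g : GL ι F) (r : ℕ) (v : ι → F) :
    (twVec σ g)^[r] v = (twNorm σ r g : Matrix ι ι F) *ᵥ fun i => (σ ^ r) (v i) := by
  induction r with
  | zero => simp [twNorm]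
  | succ r ih =>
    rw [Function.iterate_succ_apply', ih, twNorm, Units.val_mul, galGL_apply_coe, twVec,
      ← Matrix.mulVec_mulVec, pow_succ']
    congr 1
    funext i
    exact RingHom.map_mulVec σ.toRingHom _ _ i

theorem twVec_sum (σ : F ≃+* F) (g : GL ι F) {α : Type*} (s : Finset α) (c : α → F)
    (v : α → ι → F) :
    twVec σ g (∑ a ∈ s, c a • v a) = ∑ a ∈ s, σ (c a) • twVec σ g (v a) := by
  have : (fun i => σ ((∑ a ∈ s, c a • v a) i)) = ∑ a ∈ s, σ (c a) • fun i => σ (v a i) := by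
    funext i; simp [Finset.sum_apply, map_sum]
  rw [twVec, this, Matrix.mulVec_sum]
  simp [twVec, Matrix.mulVec_smul]

theorem span_twVec_fixed {σ : F ≃+* F} {r : ℕ} (hσ : orderOf σ = r) (hr : 0 < r) {g : GL ι F}
    (hg : twNorm σ r g = 1) : Submodule.span F {v : ι → F | twVec σ g v = v} = ⊤ := by
  by_contra hne
  obtain ⟨f, hf0, hfker⟩ := Submodule.exists_le_ker_of_lt_top _ (lt_top_iff_ne_top.2 hne)
  obtain ⟨v, hv⟩ : ∃ v, f v ≠ 0 := by
    by_contra! h
    exact hf0 (LinearMap.ext h)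
  have hσr : σ ^ r = 1 := by rw [← hσ]; exact pow_orderOf_eq_one σ
  have hTr : (twVec σ g)^[r] v = v := by
    rw [twVec_iterate, hg, hσr]; simp
  let χ : Fin r → (F →* F) := fun i => ((σ ^ (i : ℕ) : F ≃+* F) : F →+* F).toMonoidHom
  have hχ : Function.Injective χ := by
    intro i j h
    have h' : (σ ^ (i : ℕ) : F ≃+* F) = σ ^ (j : ℕ) :=
      RingEquiv.ext fun x => DFunLike.congr_fun h x
    exact Fin.ext (pow_injOn_Iio_orderOf (by rw [hσ]; exact i.2) (by rw [hσ]; exact j.2) h')
  have hind := (linearIndependent_monoidHom F F).comp χ hχ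
  refine hv ?_
  have hz := Fintype.linearIndependent_iff.1 hind (fun i => f ((twVec σ g)^[(i : ℕ)] v)) ?_ ⟨0, hr⟩
  · simpa using hz
  funext a
  -- the trace vector is fixed
  set w := ∑ i ∈ Finset.range r, (σ ^ i) a • (twVec σ g)^[i] v with hw
  have hwfix : twVec σ g w = w := by
    obtain ⟨k, rfl⟩ : ∃ k, r = k + 1 := ⟨r - 1, by omega⟩
    rw [hw, twVec_sum]
    conv_rhs => rw [Finset.sum_range_succ', pow_zero]
    rw [Finset.sum_range_succ]
    congr 1
    · refine Finset.sum_congr rfl fun i _ => ?_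
      rw [Function.iterate_succ_apply', pow_succ' σ]
      rfl
    · rw [← Function.iterate_succ_apply' (twVec σ g) k v, hTr, Function.iterate_zero_apply]
      show (σ * σ ^ k) a • v = _
      rw [← pow_succ', hσr]
  have hfw : f w = 0 := hfker (Submodule.subset_span hwfix)
  rw [hw, map_sum, Finset.sum_range] at hfw
  simp only [Finset.sum_apply, Pi.smul_apply, Function.comp_apply, Pi.zero_apply]
  refine (Finset.sum_congr rfl fun i _ => ?_).trans hfw
  rw [map_smul, smul_eq_mul, smul_eq_mul, mul_comm]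
  rfl

/-- Nonabelian Hilbert 90 for `GL_n` over a finite field. -/
theorem exists_eq_twist {σ : F ≃+* F} {r : ℕ} (hσ : orderOf σ = r) (hr : 0 < r) {g : GL ι F}
    (hg : twNorm σ r g = 1) : ∃ k : GL ι F, g = k * (galGL σ k)⁻¹ := by
  obtain ⟨b, hbs, hbspan, hbind⟩ := exists_linearIndependent F {v : ι → F | twVec σ g v = v}
  rw [span_twVec_fixed hσ hr hg] at hbspan
  let B : Module.Basis b F (ι → F) := Module.Basis.mk hbind (by simp [hbspan])
  let e : ι ≃ b := (Pi.basisFun F ι).indexEquiv B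
  let K : Matrix ι ι F := Matrix.of fun i j => (e j : ι → F) i
  have hK : IsUnit K := by
    rw [← Matrix.linearIndependent_cols_iff_isUnit]
    exact hbind.comp e e.injective
  refine ⟨hK.unit, eq_mul_inv_of_mul_eq (Units.ext ?_)⟩
  rw [Units.val_mul, galGL_apply_coe, IsUnit.unit_spec]
  ext i j
  exact congrFun (hbs (e j).2) i

/-- The scalar matrices as a homomorphism. -/
def scal : Fˣ →* GL ι F := Units.map (Matrix.scalar ι : F →+* Matrix ι ι F).toMonoidHom

theorem scal_coe (c : Fˣ) : ((scal c : GL ι F) : Matrix ι ι F) = (c : F) • 1 := by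
  simp [scal, Matrix.smul_one_eq_diagonal]

theorem scal_mem_scalars (c : Fˣ) : (scal c : GL ι F) ∈ Cfsg.Geo.scalars ι F := ⟨c, rfl⟩

theorem scal_comm (c : Fˣ) (g : GL ι F) : scal c * g = g * scal c :=
  Units.ext (by simp [scal_coe])

theorem galGL_scal (σ : F ≃+* F) (c : Fˣ) :
    galGL σ (scal c : GL ι F) = scal (Units.map σ.toMonoidHom c) := by
  ext i j
  by_cases h : i = j <;> simp [scal_coe, h, Matrix.one_apply]

theorem scal_injective [Nonempty ι] : Function.Injective (scal : Fˣ → GL ι F) := by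
  intro a b h
  obtain ⟨i⟩ := (inferInstance : Nonempty ι)
  have := congrArg (fun g : GL ι F => (g : Matrix ι ι F) i i) h
  simpa [scal_coe, Units.ext_iff] using this

/-- The norm `a σ(a) ⋯ σ^{r-1}(a)` on units. -/
def normU (σ : F ≃+* F) (r : ℕ) : Fˣ →* Fˣ :=
  ∏ i ∈ Finset.range r, Units.map (σ ^ i : F ≃+* F).toMonoidHom

theorem twNorm_scal (σ : F ≃+* F) (r : ℕ) (c : Fˣ) :
    twNorm σ r (scal c : GL ι F) = scal (normU σ r c) := by
  induction r with
  | zero => simp [twNorm, normU]
  | succ r ih =>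
    rw [twNorm, ih, galGL_scal, ← map_mul]
    congr 1
    simp only [normU, MonoidHom.finsetProd_apply, map_prod]
    rw [Finset.prod_range_succ']
    simp only [pow_zero]
    rw [mul_comm]
    congr 1
    refine Finset.prod_congr rfl fun i _ => ?_
    ext
    simp [pow_succ']

theorem twNorm_scal_mul (σ : F ≃+* F) (r : ℕ) (c : Fˣ) (g : GL ι F) :
    twNorm σ r (scal c * g) = scal (normU σ r c) * twNorm σ r g := by
  induction r with
  | zero => simp [twNorm, normU]
  | succ r ih =>
    have h := twNorm_scal (ι := ι) σ (r + 1) c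
    rw [twNorm, twNorm_scal] at h
    rw [twNorm, ih, map_mul, twNorm, ← h, mul_assoc, ← mul_assoc g, mul_assoc (scal c),
      galGL_scal, ← scal_comm _ g, mul_assoc _ g]

theorem exists_units_eq_twist {σ : F ≃+* F} {r : ℕ} (hσ : orderOf σ = r) (hr : 0 < r) {c : Fˣ}
    (hc : normU σ r c = 1) : ∃ d : Fˣ, c = d * (Units.map σ.toMonoidHom d)⁻¹ := by
  have h : twNorm σ r (scal c : GL Unit F) = 1 := by rw [twNorm_scal, hc, map_one]
  obtain ⟨k, hk⟩ := exists_eq_twist hσ hr h
  have hk' : (scal c : GL Unit F) * galGL σ k = k := by rw [hk, inv_mul_cancel_right]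
  have he := congrArg (fun x : GL Unit F => (x : Matrix Unit Unit F) () ()) hk'
  simp [scal_coe, Matrix.mul_apply] at he
  have hk0 : (k : Matrix Unit Unit F) () () ≠ 0 := fun h0 =>
    k.det_ne_zero (by rw [Matrix.det_unique]; exact h0)
  exact ⟨Units.mk0 _ hk0, eq_mul_inv_of_mul_eq (Units.ext (by simpa using he))⟩

/-- The units fixed by `σ`. -/
def fixedUnits (σ : F ≃+* F) : Subgroup Fˣ where
  carrier := {c | σ c = c}
  one_mem' := map_one σ
  mul_mem' {a b} ha hb := by simp_all
  inv_mem' {a} ha := by simp_all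

theorem mem_fixedUnits {σ : F ≃+* F} {c : Fˣ} : c ∈ fixedUnits σ ↔ σ c = c := Iff.rfl

theorem normU_fixed {σ : F ≃+* F} {r : ℕ} (hσ : orderOf σ = r) (a : Fˣ) :
    normU σ r a ∈ fixedUnits σ := by
  rw [mem_fixedUnits]
  rcases Nat.eq_zero_or_pos r with rfl | hr
  · simp [normU]
  obtain ⟨k, rfl⟩ : ∃ k, r = k + 1 := ⟨r - 1, by omega⟩
  simp only [normU, MonoidHom.finsetProd_apply, Units.coe_prod, map_prod, Units.coe_map]
  conv_rhs => rw [Finset.prod_range_succ']
  rw [Finset.prod_range_succ]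
  congr 1
  · refine Finset.prod_congr rfl fun i _ => ?_
    rw [pow_succ']; rfl
  · show (σ * σ ^ k) (a : F) = _
    rw [← pow_succ', ← hσ, pow_orderOf_eq_one]
    rfl

/-- The norm is surjective onto the fixed units. -/
theorem exists_norm_eq_fixed [Finite F] {σ : F ≃+* F} {r : ℕ} (hσ : orderOf σ = r) (hr : 0 < r)
    {c : Fˣ} (hc : σ c = c) : ∃ a : Fˣ, normU σ r a = c := by
  set τ : Fˣ →* Fˣ :=
    { toFun := fun d => d * (Units.map σ.toMonoidHom d)⁻¹
      map_one' := by simp
      map_mul' := fun a b => by rw [map_mul, mul_inv]; exact mul_mul_mul_comm _ _ _ _ } with hτ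
  have hker : τ.ker = fixedUnits σ := by
    ext d
    rw [MonoidHom.mem_ker, mem_fixedUnits]
    show d * (Units.map σ.toMonoidHom d)⁻¹ = 1 ↔ _
    rw [mul_inv_eq_one, Units.ext_iff, eq_comm]
    rfl
  have hle : (normU σ r).range ≤ fixedUnits σ := by
    rintro _ ⟨a, rfl⟩; exact normU_fixed hσ a
  have hker2 : (normU σ r).ker ≤ τ.range := fun a ha => by
    obtain ⟨d, hd⟩ := exists_units_eq_twist hσ hr ha
    exact ⟨d, hd.symm⟩
  have h1 : Nat.card τ.range * Nat.card (fixedUnits σ) = Nat.card Fˣ := by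
    rw [← Subgroup.index_ker, hker, Subgroup.index_mul_card]
  have h2 : Nat.card (normU σ r).range * Nat.card (normU σ r).ker = Nat.card Fˣ := by
    rw [← Subgroup.index_ker, Subgroup.index_mul_card]
  have h3 : Nat.card (normU σ r).ker ≤ Nat.card τ.range :=
    Nat.card_le_card_of_injective _ (Subgroup.inclusion_injective hker2)
  have h4 : Nat.card (fixedUnits σ) ≤ Nat.card (normU σ r).range := by
    by_contra! hlt
    have hpos : 0 < Nat.card τ.range := Nat.card_pos
    have h5 : Nat.card (normU σ r).range * Nat.card (normU σ r).ker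
        < Nat.card (fixedUnits σ) * Nat.card τ.range := Nat.mul_lt_mul_of_lt_of_le hlt h3 hpos
    rw [mul_comm] at h1
    omega
  have heq := Subgroup.eq_of_le_of_card_ge hle h4
  have : c ∈ (normU σ r).range := by rw [heq]; exact hc
  exact this

variable (σ : F ≃+* F)

/-- The fixed field of `σ`. -/
abbrev fixF : Subfield F := FixedPoints.subfield (Subgroup.zpowers σ) F

theorem mem_fixF {x : F} : x ∈ fixF σ ↔ σ x = x := by
  constructor
  · intro h; exact h ⟨σ, Subgroup.mem_zpowers σ⟩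
  · rintro h ⟨τ, hτ⟩
    have h' : Subgroup.zpowers σ ≤ MulAction.stabilizer (F ≃+* F) x := Subgroup.zpowers_le.2 h
    exact h' hτ

theorem pow_card_fixed [Finite F] {r : ℕ} (hσ : orderOf σ = r) :
    Nat.card (fixF σ) ^ r = Nat.card F := by
  have : Finite (Subgroup.zpowers σ) := by
    have : Finite (F ≃+* F) := Finite.of_injective _ DFunLike.coe_injective
    infer_instance
  have : Fintype (Subgroup.zpowers σ) := Fintype.ofFinite _
  rw [Module.natCard_eq_pow_finrank (K := fixF σ) (V := F),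
    FixedPoints.finrank_eq_card (Subgroup.zpowers σ) F, ← Nat.card_eq_fintype_card,
    Nat.card_zpowers, hσ]

theorem exists_embedding_fixed [Finite F] {r Q : ℕ} (hσ : orderOf σ = r) (hr : 0 < r)
    (hQ : Q ^ r = Nat.card F) (F₀ : Type*) [Field F₀] [Fintype F₀] (hF₀ : Fintype.card F₀ = Q) :
    ∃ e : F₀ →+* F, ∀ x : F, x ∈ Set.range e ↔ σ x = x := by
  classical
  have : Fintype (fixF σ) := Fintype.ofFinite _
  have hc : Fintype.card F₀ = Fintype.card (fixF σ) := by
    rw [hF₀, ← Nat.card_eq_fintype_card]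
    exact Nat.pow_left_injective hr.ne' (hQ.trans (pow_card_fixed σ hσ).symm)
  let e₀ : F₀ ≃+* fixF σ := FiniteField.ringEquivOfCardEq hc
  refine ⟨(fixF σ).subtype.comp e₀.toRingHom, fun x => ?_⟩
  rw [← mem_fixF]
  constructor
  · rintro ⟨y, rfl⟩; exact (e₀ y).2
  · intro hx; exact ⟨e₀.symm ⟨x, hx⟩, by simp⟩

end Cfsg.Agent.FieldAut
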