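import Cfsg.Agent.Lib.FieldAut.Tools
import Cfsg.Agent.Lib.Unitary.Transvection

/-!
# Field automorphisms of `PSU_n(q)`

`suMat`, `suRigid`, `inndiagPSU_eq`, `psu_reduce`, and the two theorems `psu_coset_conj`,
`psu_centralizer_and_split`, each given `PSUAutHyp` (`gammaPSU = ⊤`).
-/

set_option autoImplicit false

namespace Cfsg.Agent.FieldAut

open scoped MatrixGroups Matrix
open Cfsg.Agent.Unitary (two_le_q hermForm_isHerm IsHerm)

variable {n q : ℕ} {F : Type*} [Field F]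

/-- The special unitary group as matrices. -/
noncomputable def suMat (n : ℕ) (F : Type*) [Field F] (q : ℕ) :
    Cfsg.SU n F q →* GL (Fin n) F :=
  (Cfsg.GU n F q).subtype.comp (Unitary.suToGU n F q)

theorem suMat_coe (s : Cfsg.SU n F q) :
    ((suMat n F q s : GL (Fin n) F) : Matrix (Fin n) (Fin n) F) = s.1.1 := rfl

theorem suMat_injective : Function.Injective (suMat n F q) :=
  Subtype.val_injective.comp Unitary.suToGU_injective

theorem suMat_mem (s : Cfsg.SU n F q) : suMat n F q s ∈ Cfsg.GU n F q :=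
  (Unitary.suToGU n F q s).2

theorem mem_suMat_range {g : GL (Fin n) F} :
    g ∈ (suMat n F q).range ↔ g ∈ Cfsg.GU n F q ∧ g.1.det = 1 := by
  constructor
  · rintro ⟨s, rfl⟩; exact ⟨suMat_mem s, s.1.2⟩
  · rintro ⟨hg, hd⟩; exact ⟨Unitary.suOfUnitary _ hg hd, Units.ext rfl⟩

theorem det_galGL (σ : F ≃+* F) (g : GL (Fin n) F) :
    (galGL σ g).1.det = σ g.1.det := by
  rw [galGL_apply_coe]
  exact (RingHom.map_det σ.toRingHom g.1).symm

theorem galGL_GU (σ : F ≃+* F) {g : GL (Fin n) F} (hg : g ∈ Cfsg.GU n F q) :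
    galGL σ g ∈ Cfsg.GU n F q := by
  rw [Unitary.mem_GU_iff] at hg ⊢
  intro u v
  have key := congrArg σ (hg (σ.symm ∘ u) (σ.symm ∘ v))
  have hmv : ∀ w : Fin n → F, σ ∘ (g.1 *ᵥ (σ.symm ∘ w)) = (galGL σ g).1 *ᵥ w := by
    intro w
    funext i
    rw [galGL_apply_coe]
    simp [Matrix.mulVec, dotProduct]
  have hform : ∀ x y : Fin n → F,
      σ (Cfsg.hermForm n F q x y) = Cfsg.hermForm n F q (σ ∘ x) (σ ∘ y) := by
    intro x y; simp [Cfsg.hermForm]
  rw [hform, hform, hmv, hmv] at key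
  rw [key]
  congr 1 <;> funext i <;> simp

theorem conj_mem_suMat {g : GL (Fin n) F} (hg : g ∈ Cfsg.GU n F q) :
    MulAut.conj g ∈ keep (suMat n F q) := by
  have key : ∀ g ∈ Cfsg.GU n F q, ∀ x ∈ (suMat n F q).range,
      g * x * g⁻¹ ∈ (suMat n F q).range := by
    intro g hg x hx
    obtain ⟨hx1, hx2⟩ := mem_suMat_range.1 hx
    refine mem_suMat_range.2 ⟨mul_mem (mul_mem hg hx1) (inv_mem hg), ?_⟩
    rw [Units.val_mul, Units.val_mul, Matrix.det_mul, Matrix.det_mul, hx2, mul_one,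
      ← Matrix.det_mul, ← Units.val_mul, mul_inv_cancel, Units.val_one, Matrix.det_one]
  intro x
  constructor
  · intro hx
    have := key g⁻¹ (inv_mem hg) _ hx
    simpa [MulAut.conj_apply, mul_assoc] using this
  · intro hx; exact key g hg x hx

theorem keep_gal_su (σ : F ≃+* F) : galGL σ ∈ keep (suMat n F q) := by
  have key : ∀ τ : F ≃+* F, ∀ x ∈ (suMat n F q).range, galGL τ x ∈ (suMat n F q).range := by
    intro τ x hx
    obtain ⟨hx1, hx2⟩ := mem_suMat_range.1 hx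
    exact mem_suMat_range.2 ⟨galGL_GU τ hx1, by rw [det_galGL, hx2, map_one]⟩
  intro x
  refine ⟨fun hx => ?_, key σ x⟩
  have := key σ⁻¹ _ hx
  rwa [← MulAut.mul_apply, ← map_mul, inv_mul_cancel, map_one, MulAut.one_apply] at this

theorem isInd_semilinear_psu (g : GL (Fin n) F) (σ : F ≃+* F)
    (β : Cfsg.PSU n F q ≃* Cfsg.PSU n F q) :
    Cfsg.IsInducedBySemilinearPSU g σ β ↔
      IsInd (suMat n F q) (MulAut.conj g * galGL σ : MulAut (GL (Fin n) F)) β :=
  ⟨fun h a a' ha => h a a' (congrArg Units.val ha :),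
    fun h a a' ha => h a a' (Units.ext ha)⟩

theorem isInd_fieldAut_psu (σ : F ≃+* F) (β : Cfsg.PSU n F q ≃* Cfsg.PSU n F q) :
    Cfsg.IsFieldAutPSUOf σ β ↔ IsInd (suMat n F q) (galGL σ) β :=
  ⟨fun h a a' ha => h a a' (congrArg Units.val ha :),
    fun h a a' ha => h a a' (Units.ext ha)⟩

theorem isInd_innerDiag_psu (β : Cfsg.PSU n F q ≃* Cfsg.PSU n F q) :
    Cfsg.IsInnerDiagonalAutPSU β ↔
      ∃ g ∈ Cfsg.GU n F q, IsInd (suMat n F q) (MulAut.conj g) β :=
  exists_congr fun g => and_congr_right fun _ =>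
    ⟨fun h a a' ha => h a a' (congrArg Units.val ha :),
      fun h a a' ha => h a a' (Units.ext ha)⟩

theorem inndiagPSU_eq : Cfsg.inndiagPSU n F q
    = (conjAut suMat_injective (Cfsg.GU n F q) fun _ => conj_mem_suMat).range :=
  closure_isInd_eq_range _ _ _ _ isInd_innerDiag_psu

/-- The hypothesis on the automorphism group: every automorphism is semilinear. -/
def PSUAutHyp (n : ℕ) (F : Type*) [Field F] (q : ℕ) : Prop := Cfsg.gammaPSU n F q = ⊤

theorem inndiag_normal_psu (hA : PSUAutHyp n F q) (α : MulAut (Cfsg.PSU n F q)) :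
    α ∈ Subgroup.normalizer (Cfsg.inndiagPSU n F q : Set (MulAut (Cfsg.PSU n F q))) := by
  rw [inndiagPSU_eq]
  have hle : Cfsg.gammaPSU n F q ≤ Subgroup.normalizer
      ((conjAut suMat_injective (Cfsg.GU n F q) fun _ => conj_mem_suMat).range :
        Set (MulAut (Cfsg.PSU n F q))) := by
    refine gamma_le_normalizer _ _ _ _ fun β ⟨g, σ, hg, hβ⟩ =>
      ⟨⟨MulAut.conj g * galGL σ, mul_mem (conj_mem_suMat hg) (keep_gal_su σ)⟩, fun x => ?_,
        (isInd_semilinear_psu g σ β).1 hβ⟩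
    show g * galGL σ x * g⁻¹ ∈ Cfsg.GU n F q ↔ _
    rw [Subgroup.mul_mem_cancel_right _ (inv_mem hg), Subgroup.mul_mem_cancel_left _ hg]
    refine ⟨fun h => ?_, galGL_GU σ⟩
    have := galGL_GU σ⁻¹ h
    rwa [← MulAut.mul_apply, ← map_mul, inv_mul_cancel, map_one, MulAut.one_apply] at this
  exact hle (hA ▸ Subgroup.mem_top α)

variable [Fintype F]

theorem exists_three_norm_neg_one (hF : Fintype.card F = q ^ 2) :
    ∃ a b c : F, a ^ (q + 1) = -1 ∧ b ^ (q + 1) = -1 ∧ c ^ (q + 1) = -1 ∧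
      a ≠ b ∧ a ≠ c ∧ b ≠ c := by
  classical
  obtain ⟨t, ht⟩ := Unitary.exists_norm_eq hF (c := (-1 : F))
    (by rw [Unitary.neg_pow_q hF, one_pow])
  have h0 : t ≠ 0 := fun h => by simp [h] at ht
  let u : Finset Fˣ := Finset.univ.filter fun x => x ^ (q + 1) = 1
  have hu : 2 < u.card := by
    have h1 : u.card = Nat.card (powMonoidHom (q + 1) : Fˣ →* Fˣ).ker := by
      rw [Nat.card_eq_fintype_card, Fintype.card_subtype]
      simp [u]
    rw [h1, IsCyclic.card_powMonoidHom_ker, Unitary.card_units hF,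
      Nat.gcd_eq_right (Unitary.q_succ_dvd q)]
    have := two_le_q hF
    omega
  obtain ⟨x, hx, y, hy, z, hz, hxy, hxz, hyz⟩ := Finset.two_lt_card.1 hu
  have hm : ∀ w ∈ u, (t * (w : F)) ^ (q + 1) = -1 := by
    intro w hw
    rw [mul_pow, ht, show (w : F) ^ (q + 1) = 1 by
      simpa using congrArg Units.val (Finset.mem_filter.1 hw).2, mul_one]
  exact ⟨t * x, t * y, t * z, hm x hx, hm y hy, hm z hz,
    fun h => hxy (Units.ext (mul_left_cancel₀ h0 h)), fun h => hxz (Units.ext (mul_left_cancel₀ h0 h)),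
    fun h => hyz (Units.ext (mul_left_cancel₀ h0 h))⟩

/-- The isotropic vector `eᵢ + t eⱼ`. -/
theorem isotropic_pair (hF : Fintype.card F = q ^ 2) {i j : Fin n} (hij : i ≠ j) {t : F}
    (ht : t ^ (q + 1) = -1) :
    Cfsg.hermForm n F q (Pi.single i 1 + t • Pi.single j 1)
      (Pi.single i 1 + t • Pi.single j 1) = 0 := by
  have H := hermForm_isHerm hF n
  have ho := Unitary.single_orthonormal (F := F) hF n
  rw [H.add_left, H.add_right hF, H.add_right hF, H.smul_left, H.smul_left, H.smul_right,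
    H.smul_right, ho.1, ho.1, ho.2 hij, ho.2 hij.symm]
  linear_combination ht

theorem mem_scalars_of_isotropic_eigen (hF : Fintype.card F = q ^ 2) (hn : 2 ≤ n)
    (g : GL (Fin n) F)
    (h : ∀ v : Fin n → F, v ≠ 0 → Cfsg.hermForm n F q v v = 0 →
      ∃ a : F, g.1 *ᵥ v = a • v) :
    g ∈ Cfsg.Geo.scalars (Fin n) F := by
  obtain ⟨a, b, c, ha, hb, hc, hab, hac, hbc⟩ := exists_three_norm_neg_one (q := q) hF
  have hent : ∀ i j : Fin n, i ≠ j → g.1 i j = 0 ∧ g.1 j j = g.1 i i := by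
    intro i j hij
    have hrel : ∀ t : F, t ^ (q + 1) = -1 → ∀ k,
        g.1 k i + t * g.1 k j =
          (g.1 i i + t * g.1 i j) * (Pi.single i 1 + t • Pi.single j 1 : Fin n → F) k := by
      intro t ht k
      have hne : (Pi.single i 1 + t • Pi.single j 1 : Fin n → F) ≠ 0 := fun h0 => by
        simpa [hij] using congrFun h0 i
      obtain ⟨l, hl⟩ := h _ hne (isotropic_pair hF hij ht)
      have hk : ∀ k, g.1 k i + t * g.1 k j
          = l * (Pi.single i 1 + t • Pi.single j 1 : Fin n → F) k := by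
        intro k
        have := congrFun hl k
        rw [Matrix.mulVec_add, Matrix.mulVec_smul, Matrix.mulVec_single_one,
          Matrix.mulVec_single_one] at this
        simpa using this
      have hli : g.1 i i + t * g.1 i j = l := by simpa [hij] using hk i
      rw [hli]; exact hk k
    have hj : ∀ t : F, t ^ (q + 1) = -1 →
        g.1 j i + t * g.1 j j = (g.1 i i + t * g.1 i j) * t := fun t ht => by
      simpa [hij.symm] using hrel t ht j
    have e1 : g.1 i j * (a + b) + (g.1 i i - g.1 j j) = 0 := by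
      apply mul_left_cancel₀ (sub_ne_zero.2 hab)
      linear_combination -(hj a ha) + hj b hb
    have e2 : g.1 i j * (a + c) + (g.1 i i - g.1 j j) = 0 := by
      apply mul_left_cancel₀ (sub_ne_zero.2 hac)
      linear_combination -(hj a ha) + hj c hc
    have e3 : g.1 i j = 0 :=
      (mul_eq_zero.1 (by linear_combination e1 - e2 : g.1 i j * (b - c) = 0)).resolve_right
        (sub_ne_zero.2 hbc)
    exact ⟨e3, by rw [e3] at e1; linear_combination -e1⟩
  let i₀ : Fin n := ⟨0, by omega⟩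
  have hd : ∀ j, g.1 j j = g.1 i₀ i₀ := by
    intro j
    rcases eq_or_ne i₀ j with rfl | hj
    · rfl
    · exact (hent i₀ j hj).2
  have hne : g.1 i₀ i₀ ≠ 0 := by
    intro h0
    have : Nonempty (Fin n) := ⟨i₀⟩
    exact g.ne_zero (Matrix.ext fun i j => by
      rcases eq_or_ne i j with rfl | hij
      · rw [hd, h0]; rfl
      · exact (hent i j hij).1)
  refine (Cfsg.Geo.mem_scalars_iff g).2 ⟨Units.mk0 _ hne, ?_⟩
  ext i j
  rcases eq_or_ne i j with rfl | hij
  · simp [hd i]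
  · simp [(hent i j hij).1, hij]

theorem unipotent_suTransv (hF : Fintype.card F = q ^ 2) (v : Fin n → F)
    (hv : Cfsg.hermForm n F q v v = 0) (c : F) (hc : c + c ^ q = 0) :
    IsNilpotent (((suMat n F q (Unitary.suTransvection hF v hv c hc) : GL (Fin n) F) :
      Matrix (Fin n) (Fin n) F) - 1) := by
  refine ⟨2, Matrix.mulVec_injective (funext fun x => ?_)⟩
  rw [suMat_coe, pow_two, ← Matrix.mulVec_mulVec, Unitary.suTransvection, Unitary.suOfUnitary_val,
    Matrix.sub_mulVec, Matrix.sub_mulVec, Matrix.one_mulVec, Matrix.one_mulVec,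
    Unitary.transvection_mulVec, Unitary.transvection_mulVec, add_sub_cancel_left,
    add_sub_cancel_left, (hermForm_isHerm hF n).smul_left, hv]
  simp

theorem suRigid (hF : Fintype.card F = q ^ 2) (hn : 2 ≤ n) : Rigid (suMat n F q) where
  inj := suMat_injective
  commutant g hg := by
    refine mem_scalars_of_isotropic_eigen hF hn g fun v hv hv0 => ?_
    obtain ⟨δ, hδ0, hδ⟩ := Unitary.exists_skew hF
    have hδ' : δ + δ ^ q = 0 := by rw [hδ, add_neg_cancel]
    obtain ⟨x, hx⟩ : ∃ x, Cfsg.hermForm n F q x v ≠ 0 := by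
      by_contra! h0
      exact hv (Unitary.hermForm_nondeg hF n v fun y => by
        rw [(hermForm_isHerm hF n).conj_symm y v, h0, Unitary.zero_pow_q hF])
    have hc := hg _ (unipotent_suTransv hF v hv0 δ hδ')
    have h1 := congrArg (fun k : GL (Fin n) F => (k : Matrix (Fin n) (Fin n) F) *ᵥ x) hc.eq
    simp only [Units.val_mul, ← Matrix.mulVec_mulVec, suMat_coe, Unitary.suTransvection,
      Unitary.suOfUnitary_val, Unitary.transvection_mulVec, Matrix.mulVec_add,
      Matrix.mulVec_smul] at h1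
    have h2 := add_left_cancel h1
    refine ⟨(δ * Cfsg.hermForm n F q x v)⁻¹ * (δ * Cfsg.hermForm n F q (g.1 *ᵥ x) v), ?_⟩
    rw [mul_smul, eq_inv_smul_iff₀ (mul_ne_zero hδ0 hx)]
    exact h2

theorem gal_faithful_su (hF : Fintype.card F = q ^ 2) (hn : 2 ≤ n) {σ : F ≃+* F}
    (h : ∀ a, IsNilpotent ((suMat n F q a : Matrix (Fin n) (Fin n) F) - 1) →
      galGL σ (suMat n F q a) = suMat n F q a) : σ = 1 := by
  classical
  obtain ⟨δ, hδ0, hδ⟩ := Unitary.exists_skew hF
  have hδ' : δ + δ ^ q = 0 := by rw [hδ, add_neg_cancel]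
  let i : Fin n := ⟨0, by omega⟩
  let j : Fin n := ⟨1, by omega⟩
  have hij : i ≠ j := by simp [i, j, Fin.ext_iff]
  have hfix : ∀ t : F, t ^ (q + 1) = -1 → σ δ = δ ∧ σ t = t := by
    intro t ht
    let v : Fin n → F := Pi.single i 1 + t • Pi.single j 1
    have hv := isotropic_pair (n := n) hF hij ht
    have h1 := h _ (unipotent_suTransv hF v hv δ hδ')
    have hentry : ∀ k l, σ ((Cfsg.unitaryTransvection n q v δ) k l)
        = (Cfsg.unitaryTransvection n q v δ) k l := fun k l =>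
      congrArg (fun g : GL (Fin n) F => (g : Matrix (Fin n) (Fin n) F) k l) h1
    have hii := hentry i i
    have hji := hentry j i
    have hvi : v i = 1 := by simp [v, hij]
    have hvj : v j = t := by simp [v, hij.symm]
    simp only [Cfsg.unitaryTransvection, Matrix.add_apply, Matrix.smul_apply,
      Matrix.vecMulVec_apply, Matrix.one_apply_eq, Matrix.one_apply_ne hij.symm, hvi, hvj,
      one_pow, mul_one, smul_eq_mul, map_add, map_one, zero_add, map_mul] at hii hji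
    have hd : σ δ = δ := add_left_cancel hii
    rw [hd] at hji
    exact ⟨hd, mul_left_cancel₀ hδ0 hji⟩
  obtain ⟨t, -, -, ht, -⟩ := exists_three_norm_neg_one (q := q) hF
  have ht0 : t ≠ 0 := fun h0 => by simp [h0] at ht
  have hnorm : ∀ u : F, u ^ (q + 1) = 1 → σ u = u := by
    intro u hu
    have h2 := (hfix (t * u) (by rw [mul_pow, ht, hu, mul_one])).2
    rw [map_mul, (hfix t ht).2] at h2
    exact mul_left_cancel₀ ht0 h2
  have hbig : q + 1 < Nat.card (fixF σ) := by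
    let K := (powMonoidHom (q + 1) : Fˣ →* Fˣ).ker
    have hK : Nat.card K = q + 1 := by
      rw [IsCyclic.card_powMonoidHom_ker, Unitary.card_units hF,
        Nat.gcd_eq_right (Unitary.q_succ_dvd q)]
    let f : Option K → fixF σ := fun o => o.elim 0 fun u =>
      ⟨(u.1 : F), (mem_fixF σ).2 (hnorm _ (by simpa using congrArg Units.val u.2))⟩
    have hf : Function.Injective f := by
      rintro (_ | u) (_ | w) e
      · rfl
      · exact absurd (congrArg Subtype.val e).symm w.1.ne_zero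
      · exact absurd (congrArg Subtype.val e) u.1.ne_zero
      · exact congrArg some (Subtype.ext (Units.ext (congrArg Subtype.val e :)))
    have := Nat.card_le_card_of_injective f hf
    rw [Finite.card_option, hK] at this
    omega
  have hpow := pow_card_fixed σ rfl
  rw [Nat.card_eq_fintype_card (α := F), hF] at hpow
  have : Finite (F ≃+* F) := Finite.of_injective _ DFunLike.coe_injective
  rcases Nat.lt_or_ge (orderOf σ) 2 with hlt | hge
  · exact orderOf_eq_one_iff.1 (by have := orderOf_pos σ; omega)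
  · have h1 : Nat.card (fixF σ) ^ 2 ≤ q ^ 2 := hpow ▸ Nat.pow_le_pow_right (by omega) hge
    have := (Nat.pow_le_pow_iff_left two_ne_zero).1 h1
    omega

theorem pow_odd_pow {F₀ : Type*} [Field F₀] [Fintype F₀] {q₀ : ℕ}
    (h₀ : Fintype.card F₀ = q₀ ^ 2) {r : ℕ} (hr : Odd r) (x : F₀) :
    x ^ (q₀ ^ r) = x ^ q₀ := by
  obtain ⟨j, rfl⟩ := hr
  rw [pow_succ, pow_mul, pow_mul, ← h₀, FiniteField.pow_card_pow]

/-- `hermForm` as a dot product. -/
theorem hermForm_mulVec (M : Matrix (Fin n) (Fin n) F) (hF : Fintype.card F = q ^ 2)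
    (u v : Fin n → F) :
    Cfsg.hermForm n F q (M *ᵥ u) (M *ᵥ v)
      = u ⬝ᵥ ((Mᵀ * M.map (Unitary.conjHom hF)) *ᵥ (fun i => v i ^ q)) := by
  have h1 : ∀ a b : Fin n → F, Cfsg.hermForm n F q a b = a ⬝ᵥ fun i => b i ^ q :=
    fun a b => rfl
  rw [h1, ← Matrix.mulVec_mulVec, Matrix.dotProduct_mulVec _ Mᵀ, Matrix.vecMul_transpose]
  congr 1
  funext i
  exact RingHom.map_mulVec (Unitary.conjHom hF) M v i

theorem mem_GU_iff_matrix (hF : Fintype.card F = q ^ 2) (g : GL (Fin n) F) :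
    g ∈ Cfsg.GU n F q ↔ g.1ᵀ * g.1.map (Unitary.conjHom hF) = 1 := by
  show Unitary.IsUnitary q g.1 ↔ _
  rw [Unitary.isUnitary_iff_orthonormal hF]
  constructor
  · intro hb
    ext i j
    rw [Matrix.one_apply, ← hb.apply i j]
    rfl
  · intro he
    refine ⟨fun i => ?_, fun i j hij => ?_⟩
    · exact (congrFun (congrFun he i) i).trans (Matrix.one_apply_eq i)
    · exact (congrFun (congrFun he i) j).trans (Matrix.one_apply_ne hij)

theorem smul_one_map_conj (hF : Fintype.card F = q ^ 2) (a : F) :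
    (a • (1 : Matrix (Fin n) (Fin n) F)).map (Unitary.conjHom hF) = a ^ q • 1 := by
  ext i j
  rcases eq_or_ne i j with rfl | hij
  · simp
  · simp [hij, Unitary.zero_pow_q hF]

theorem scal_mem_GU (hF : Fintype.card F = q ^ 2) (a : Fˣ) (ha : a ^ (q + 1) = 1) :
    (scal a : GL (Fin n) F) ∈ Cfsg.GU n F q := by
  rw [mem_GU_iff_matrix hF, scal_coe]
  have h1 : (a : F) * (a : F) ^ q = 1 := by
    rw [← pow_succ']; simpa using congrArg Units.val ha
  rw [smul_one_map_conj hF, Matrix.transpose_smul, Matrix.transpose_one, Matrix.smul_mul, Matrix.one_mul, smul_smul,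
    h1, one_smul]

section Descent

variable {F₀ : Type*} [Field F₀] [Fintype F₀] {q₀ r : ℕ} {σ : F ≃+* F} {e : F₀ →+* F}

theorem embed_conj (hF : Fintype.card F = q ^ 2) (h₀ : Fintype.card F₀ = q₀ ^ 2) (hqq : q = q₀ ^ r)
    (hr : Odd r) (x : F₀) : Unitary.conjHom hF (e x) = e (x ^ q₀) := by
  rw [Unitary.conjHom_apply, ← map_pow, hqq, pow_odd_pow h₀ hr]

theorem map_conj_embed (hF : Fintype.card F = q ^ 2) (h₀ : Fintype.card F₀ = q₀ ^ 2)
    (hqq : q = q₀ ^ r) (hr : Odd r) (M : Matrix (Fin n) (Fin n) F₀) :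
    (M.map e).map (Unitary.conjHom hF) = (M.map (Unitary.conjHom h₀)).map e := by
  ext i j
  exact embed_conj hF h₀ hqq hr _

/-- A multiplier of a twisted hermitian matrix is `σ w / w` with `w` fixed by conjugation. -/
theorem exists_herm_multiple (hF : Fintype.card F = q ^ 2) (h₀ : Fintype.card F₀ = q₀ ^ 2)
    (hqq : q = q₀ ^ r) (hr : Odd r) (hfix : ∀ x, σ (e x) = e x) {c x : F} (hx : x ≠ 0)
    (hσx : σ x = c * x) (hc : c ^ q = c) : ∃ w : F, w ≠ 0 ∧ w ^ q = w ∧ σ w = c * w := by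
  have hσxq : σ (x ^ q) = c * x ^ q := by rw [map_pow, hσx, mul_pow, hc]
  by_cases h1 : x + x ^ q = 0
  · obtain ⟨u, hu0, hu⟩ : ∃ u : F₀, u ≠ 0 ∧ u ^ q₀ ≠ u := by
      by_contra! hcon
      obtain ⟨δ, hδ0, hδ⟩ := Unitary.exists_skew h₀
      have h2 : δ = -δ := (hcon δ hδ0).symm.trans hδ
      obtain ⟨t, ht⟩ := Unitary.exists_trace_eq h₀ (one_pow q₀ : (1 : F₀) ^ q₀ = 1)
      have htt : t + t = 1 := by
        rcases eq_or_ne t 0 with rfl | ht0
        · simpa [Unitary.zero_pow_q h₀] using ht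
        · rwa [hcon t ht0] at ht
      exact hδ0 (by linear_combination (-δ) * htt + t * h2)
    have hσu : σ (e u * x) = c * (e u * x) := by rw [map_mul, hfix, hσx]; ring
    have hxq : (e u * x) ^ q = -(e (u ^ q₀) * x) := by
      rw [mul_pow, ← Unitary.conjHom_apply hF (e u), embed_conj hF h₀ hqq hr,
        eq_neg_of_add_eq_zero_right h1, mul_neg]
    refine ⟨e u * x + (e u * x) ^ q, ?_, Unitary.trace_fixed hF _, ?_⟩
    · rw [hxq, ← sub_eq_add_neg, ← sub_mul, ← map_sub]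
      exact mul_ne_zero (fun h => hu (sub_eq_zero.1 (e.injective (h.trans (map_zero e).symm))).symm)
        hx
    · rw [map_add, map_pow, hσu, mul_pow, hc]; ring
  · exact ⟨x + x ^ q, h1, Unitary.trace_fixed hF x, by rw [map_add, hσx, hσxq]; ring⟩

theorem psu_desc (hF : Fintype.card F = q ^ 2) (h₀ : Fintype.card F₀ = q₀ ^ 2) (hqq : q = q₀ ^ r)
    (hr : Odd r) (hσ : orderOf σ = r) (hfix : ∀ x, σ (e x) = e x)
    (hrange : ∀ x, σ x = x → x ∈ Set.range e) (hn : 0 < n)
    {g : GL (Fin n) F} (hg : g ∈ Cfsg.GU n F q) (hz : ∃ z : Fˣ, twNorm σ r g = scal z) :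
    ∃ k ∈ Cfsg.GU n F q, ∃ a : Fˣ, g = scal a * (k * (galGL σ k)⁻¹) := by
  classical
  have : Nonempty (Fin n) := ⟨⟨0, hn⟩⟩
  obtain ⟨z, hz⟩ := hz
  obtain ⟨a, k, hgk⟩ := exists_twist_of_scalar hσ hr.pos hz
  set B := k.1ᵀ * k.1.map (Unitary.conjHom hF) with hB
  have hσk' : g * galGL σ k = scal a * k := by rw [hgk, mul_assoc, inv_mul_cancel_right]
  set c : F := (a : F) * (a : F) ^ q with hc
  have hcq : c ^ q = c := by rw [hc, mul_pow, Unitary.pow_q_pow_q hF]; ring
  have hconjσ : (galGL σ k).1.map (Unitary.conjHom hF) = (k.1.map (Unitary.conjHom hF)).map σ := by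
    rw [galGL_apply_coe]; ext i j; simp
  have hBσ : B.map σ = c • B := by
    have h1 : B.map σ = (galGL σ k).1ᵀ * (galGL σ k).1.map (Unitary.conjHom hF) := by
      rw [hconjσ, galGL_apply_coe, ← Matrix.transpose_map, hB, ← Matrix.map_mul]
    have h2 : ∀ M : Matrix (Fin n) (Fin n) F, (g.1 * M)ᵀ * (g.1 * M).map (Unitary.conjHom hF)
        = Mᵀ * M.map (Unitary.conjHom hF) := by
      intro M
      rw [Matrix.transpose_mul, Matrix.map_mul, Matrix.mul_assoc, ← Matrix.mul_assoc g.1ᵀ,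
        (mem_GU_iff_matrix hF g).1 hg, Matrix.one_mul]
    rw [h1, ← h2, ← Units.val_mul, hσk', Units.val_mul, scal_coe, smul_mul_assoc, one_mul,
      Matrix.transpose_smul]
    have h3 : ((a : F) • k.1).map (Unitary.conjHom hF) = (a : F) ^ q • k.1.map (Unitary.conjHom hF) := by
      ext i j; simp [mul_pow]
    rw [h3, Matrix.smul_mul, Matrix.mul_smul, smul_smul]
  have hBdet : B.det ≠ 0 := by
    rw [hB, Matrix.det_mul, Matrix.det_transpose]
    refine mul_ne_zero k.det_ne_zero ?_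
    rw [← RingHom.mapMatrix_apply, ← RingHom.map_det]
    exact fun h => k.det_ne_zero ((Unitary.conjHom hF).injective (h.trans (map_zero _).symm))
  obtain ⟨p₀, hp₀⟩ : ∃ p : Fin n × Fin n, B p.1 p.2 ≠ 0 := by
    by_contra! h0
    exact hBdet (by rw [show B = 0 from Matrix.ext fun i j => h0 (i, j), Matrix.det_zero])
  have hBσ' : ∀ i j, σ (B i j) = c * B i j := fun i j => congrFun (congrFun hBσ i) j
  obtain ⟨w, hw0, hwq, hσw⟩ :=
    exists_herm_multiple hF h₀ hqq hr hfix hp₀ (hBσ' p₀.1 p₀.2) hcq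
  have hc0 : c ≠ 0 := mul_ne_zero a.ne_zero (pow_ne_zero _ a.ne_zero)
  have hfixB : ∀ i j, σ (w⁻¹ * B i j) = w⁻¹ * B i j := fun i j => by
    rw [map_mul, map_inv₀, hσw, hBσ']; field_simp
  choose B₀ hB₀ using fun i j => hrange _ (hfixB i j)
  let h : (Fin n → F₀) → (Fin n → F₀) → F₀ := fun u v =>
    u ⬝ᵥ (Matrix.of B₀ *ᵥ fun i => v i ^ q₀)
  have he : ∀ v : Fin n → F₀, e ∘ (fun i => v i ^ q₀) = fun i => (e (v i)) ^ q := fun v =>
    funext fun i => (embed_conj hF h₀ hqq hr (v i)).symm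
  have hval : ∀ u v, e (h u v) = w⁻¹ * Cfsg.hermForm n F q (k.1 *ᵥ (e ∘ u)) (k.1 *ᵥ (e ∘ v)) := by
    intro u v
    rw [hermForm_mulVec k.1 hF, ← hB, RingHom.map_dotProduct]
    have h1 : e ∘ (Matrix.of B₀ *ᵥ fun i => v i ^ q₀) = (w⁻¹ • B) *ᵥ fun i => (e (v i)) ^ q := by
      funext i
      show e ((Matrix.of B₀ *ᵥ fun i => v i ^ q₀) i) = _
      rw [RingHom.map_mulVec, he,
        show (Matrix.of B₀).map e = w⁻¹ • B from Matrix.ext fun i j => hB₀ i j]
    rw [h1, Matrix.smul_mulVec, dotProduct_smul, smul_eq_mul]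
    rfl
  have H := hermForm_isHerm hF n
  have hH : IsHerm q₀ h :=
    { add_left := fun x y z => add_dotProduct _ _ _
      smul_left := fun c x z => smul_dotProduct _ _ _
      conj_symm := fun x y => e.injective (by
        rw [← embed_conj hF h₀ hqq hr, hval, hval, Unitary.conjHom_apply, mul_pow, inv_pow, hwq,
          ← H.conj_symm]) }
  have hnd : Unitary.Nondeg h := by
    intro x hx
    have hx' : ∀ j, (Matrix.vecMul x (Matrix.of B₀)) j = 0 := by
      intro j
      have h1 := hx (Pi.single j 1)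
      have h2 : (fun i => (Pi.single j (1 : F₀) : Fin n → F₀) i ^ q₀) = Pi.single j 1 := by
        funext i
        rcases eq_or_ne i j with rfl | hij <;> simp [*, Unitary.zero_pow_q h₀]
      simp only [h, h2, Matrix.dotProduct_mulVec, dotProduct_single_one] at h1
      exact h1
    refine Matrix.eq_zero_of_vecMul_eq_zero ?_ (funext hx')
    intro h0
    apply hBdet
    have h1 := e.map_det (Matrix.of B₀)
    rw [h0, map_zero, RingHom.mapMatrix_apply,
      show (Matrix.of B₀).map e = w⁻¹ • B from Matrix.ext fun i j => hB₀ i j,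
      Matrix.det_smul] at h1
    exact (mul_eq_zero.1 h1.symm).resolve_left (pow_ne_zero _ (inv_ne_zero hw0))
  obtain ⟨b, hb⟩ := Unitary.exists_orthonormalBasis h₀ hH hnd
  have hd : Module.finrank F₀ (Fin n → F₀) = n := Module.finrank_fin_fun F₀
  let k₀ : Matrix (Fin n) (Fin n) F₀ := Matrix.of fun i j => b (Fin.cast hd.symm j) i
  obtain ⟨s, hs⟩ := Unitary.exists_norm_eq hF hwq
  have hs0 : s ≠ 0 := fun h => hw0 (by rw [← hs, h, zero_pow (Nat.succ_ne_zero q)])
  let M : Matrix (Fin n) (Fin n) F := s⁻¹ • (k.1 * k₀.map e)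
  have hMu : Unitary.IsUnitary q M := by
    rw [Unitary.isUnitary_iff_orthonormal hF]
    have hcol : ∀ i, Mᵀ i = s⁻¹ • (k.1 *ᵥ (e ∘ b (Fin.cast hd.symm i))) := fun i => by
      funext l
      simp [M, k₀, Matrix.mulVec, dotProduct, Matrix.mul_apply, Function.comp_def]
    have hpair : ∀ i j, Cfsg.hermForm n F q (Mᵀ i) (Mᵀ j)
        = e (h (b (Fin.cast hd.symm i)) (b (Fin.cast hd.symm j))) := fun i j => by
      rw [hcol, hcol, H.smul_left, H.smul_right, hval, ← mul_assoc]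
      congr 1
      rw [← pow_succ', inv_pow, hs]
    exact ⟨fun i => by rw [hpair, hb.1, map_one],
      fun i j hij => by beta_reduce; rw [hpair, hb.2 (fun h => hij (Fin.cast_injective _ h)), map_zero]⟩
  let k' : GL (Fin n) F := ((Unitary.guOfUnitary hF M hMu : Cfsg.GU n F q) : GL (Fin n) F)
  have hσs : σ s⁻¹ ≠ 0 := by simp [hs0]
  refine ⟨k', (Unitary.guOfUnitary hF M hMu).2,
    a * Units.mk0 (σ s⁻¹ / s⁻¹) (div_ne_zero hσs (inv_ne_zero hs0)), ?_⟩
  rw [← mul_assoc, eq_mul_inv_iff_mul_eq]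
  refine Units.ext ?_
  have hσk : (galGL σ k').1 = σ s⁻¹ • ((galGL σ k).1 * k₀.map e) := by
    rw [galGL_apply_coe, galGL_apply_coe]
    ext i j
    simp [k', M, Matrix.mul_apply, hfix]
  have hgσ : g.1 * (galGL σ k).1 = (a : F) • k.1 := by
    rw [← Units.val_mul, hσk', Units.val_mul, scal_coe, smul_mul_assoc, one_mul]
  rw [Units.val_mul, hσk, Matrix.mul_smul, ← Matrix.mul_assoc, hgσ, Units.val_mul, scal_coe,
    Matrix.smul_mul, smul_smul, Matrix.smul_mul, Matrix.one_mul]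
  show _ = _ • (s⁻¹ • (k.1 * k₀.map e))
  rw [smul_smul]
  congr 1
  push_cast
  simp only [Units.val_mk0]
  field_simp

end Descent

/-- The field automorphism behind `x`, with its setup. -/
theorem psu_reduce (hF : Fintype.card F = q ^ 2) (hn : 2 ≤ n) (hA : PSUAutHyp n F q)
    {x : MulAut (Cfsg.PSU n F q)} (hx : Cfsg.IsFieldAutClassPSU x) {r : ℕ} (hr : r.Prime)
    (hxr : orderOf x = r) :
    ∃ (σ : F ≃+* F) (D : Setup (suMat n F q) (Cfsg.GU n F q) σ r) (α : MulAut (Cfsg.PSU n F q)),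
      α ∈ Subgroup.normalizer (D.G : Set (MulAut (Cfsg.PSU n F q))) ∧ α * x * α⁻¹ = D.phi ∧
      D.G = Cfsg.inndiagPSU n F q ∧ Odd r := by
  have : Nonempty (Fin n) := ⟨⟨0, by omega⟩⟩
  obtain ⟨α, φ, σ, hσ1, hodd, hφ, hαx⟩ := hx
  have hφ' := (isInd_iff suMat_injective (keep_gal_su σ)).1 ((isInd_fieldAut_psu σ _).1 hφ)
  have hord : orderOf σ = r := by
    refine @orderOf_eq_prime _ _ σ r ⟨hr⟩ ?_ hσ1
    refine galAut_eq_one (suRigid hF hn) (keep_gal_su _) (gal_faithful_su hF hn) ?_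
    have h1 : (indAut (suMat_injective (n := n) (q := q)) ⟨galGL σ, keep_gal_su σ⟩) ^ r = 1 := by
      rw [← hφ', ← hαx, ← MulAut.conj_apply, ← map_pow, ← hxr, pow_orderOf_eq_one, map_one]
    rw [← map_pow] at h1
    convert h1 using 2
    exact Subtype.ext (map_pow galGL σ r)
  have D : Setup (suMat n F q) (Cfsg.GU n F q) σ r :=
    ⟨suRigid hF hn, inferInstance, fun _ => conj_mem_suMat, keep_gal_su σ, fun _ => galGL_GU σ,
      hord, hr.pos⟩
  have hG : D.G = Cfsg.inndiagPSU n F q := inndiagPSU_eq.symm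
  exact ⟨σ, D, α, hG ▸ inndiag_normal_psu hA α, hαx.trans hφ', hG, hord ▸ hodd⟩

theorem psu_order_data {p f r : ℕ} (hp : p.Prime) (hq : q = p ^ f)
    (hF : Fintype.card F = q ^ 2) {σ : F ≃+* F} (hσ : orderOf σ = r) (hr : r.Prime) (hro : Odd r) :
    r ∣ f ∧ (p ^ (2 * (f / r))) ^ r = Nat.card F ∧ q = (p ^ (f / r)) ^ r := by
  have h2f : Fintype.card F = p ^ (2 * f) := by rw [hF, hq, ← pow_mul, mul_comm]
  obtain ⟨hrf, hQ, -⟩ := order_data hp h2f hσ hr.pos
  have hrf' : r ∣ f := (Nat.Coprime.dvd_mul_left (hro.coprime_two_right)).1 hrf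
  rw [Nat.mul_div_assoc 2 hrf'] at hQ
  exact ⟨hrf', hQ, by rw [hq, ← pow_mul, Nat.div_mul_cancel hrf']⟩

theorem psu_coset_conj {p f : ℕ} (hp : p.Prime) (hq : q = p ^ f)
    (hF : Fintype.card F = q ^ 2) (hn : 2 ≤ n) (hA : PSUAutHyp n F q)
    {x δ : MulAut (Cfsg.PSU n F q)} (hx : Cfsg.IsFieldAutClassPSU x) {r : ℕ} (hr : r.Prime)
    (hxr : orderOf x = r) (hδ : δ ∈ Cfsg.inndiagPSU n F q) :
    orderOf (δ * x) = r ↔ Cfsg.IsConjUnder (Cfsg.inndiagPSU n F q) x (δ * x) := by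
  obtain ⟨σ, D, α, hα, hαx, hG, hro⟩ := psu_reduce hF hn hA hx hr hxr
  obtain ⟨-, hQ, hqq⟩ := psu_order_data hp hq hF D.ordσ hr hro
  have h₀ : Nat.card (fixF σ) = (p ^ (f / r)) ^ 2 := by
    refine Nat.pow_left_injective hr.ne_zero ?_
    show Nat.card (fixF σ) ^ r = ((p ^ (f / r)) ^ 2) ^ r
    rw [pow_card_fixed σ D.ordσ, ← pow_mul p, mul_comm (f / r) 2, hQ]
  have : Fintype (fixF σ) := Fintype.ofFinite _
  rw [Nat.card_eq_fintype_card] at h₀
  rw [← hG] at hδ ⊢
  exact coset_conj_transport hα hαx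
    (fun δ hδ h => D.coset_conj (fun g hg => psu_desc hF h₀ hqq hro D.ordσ
      (e := (fixF σ).subtype) (fun x => (mem_fixF σ).1 x.2)
      (fun x hx => ⟨⟨x, (mem_fixF σ).2 hx⟩, rfl⟩) (by omega) hg) hδ h) hxr hδ

theorem psu_centralizer_and_split {p f : ℕ} (hp : p.Prime) (hq : q = p ^ f)
    (hF : Fintype.card F = q ^ 2) (hn : 2 ≤ n) (hA : PSUAutHyp n F q)
    {x : MulAut (Cfsg.PSU n F q)} (hx : Cfsg.IsFieldAutClassPSU x) {r : ℕ} (hr : r.Prime)
    (hxr : orderOf x = r) (F₀ : Type*) [Field F₀] [Fintype F₀]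
    (hF₀ : Fintype.card F₀ = p ^ (2 * (f / r))) :
    r ∣ f ∧
      Nonempty (↥(Cfsg.inndiagPSU n F q ⊓ Subgroup.centralizer {x}) ≃*
        Cfsg.PGU n F₀ (p ^ (f / r))) ∧
      Cfsg.splitClassCount (Cfsg.inndiagPSU n F q) (Cfsg.Inn (Cfsg.PSU n F q)) x
        = Nat.gcd n ((q + 1) / (p ^ (f / r) + 1)) := by
  classical
  have : Nonempty (Fin n) := ⟨⟨0, by omega⟩⟩
  obtain ⟨σ, D, α, hα, hαx, hG, hro⟩ := psu_reduce hF hn hA hx hr hxr
  obtain ⟨hrf, hQ, hqq⟩ := psu_order_data hp hq hF D.ordσ hr hro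
  set q₀ := p ^ (f / r) with hq₀
  have h₀ : Fintype.card F₀ = q₀ ^ 2 := by rw [hF₀, hq₀, ← pow_mul, mul_comm]
  obtain ⟨e, he⟩ := exists_embedding_fixed σ D.ordσ D.rpos hQ F₀ hF₀
  have hfix : ∀ x, σ (e x) = e x := fun x => (he _).1 ⟨x, rfl⟩
  have hrange : ∀ x, σ x = x → x ∈ Set.range e := fun x h => (he x).2 h
  have hmapU : ∀ g : GL (Fin n) F₀, mapGL e g ∈ Cfsg.GU n F q ↔ g ∈ Cfsg.GU n F₀ q₀ := by
    intro g
    rw [mem_GU_iff_matrix hF, mem_GU_iff_matrix h₀, mapGL_coe,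
      map_conj_embed hF h₀ hqq hro, ← Matrix.transpose_map, ← Matrix.map_mul,
      ← Matrix.map_one e (map_zero e) (map_one e)]
    exact ⟨fun h => Matrix.map_injective e.injective h, fun h => by rw [h]⟩
  have hmap : ∀ g ∈ Cfsg.GU n F₀ q₀, mapGL e g ∈ Cfsg.GU n F q := fun g hg => (hmapU g).2 hg
  have hsurj : ∀ g ∈ Cfsg.GU n F q, (∃ a : Fˣ, galGL σ g = scal a * g) →
      ∃ g₀ ∈ Cfsg.GU n F₀ q₀, ∃ a : Fˣ, g = scal a * mapGL e g₀ := by
    intro g hg ⟨a, ha⟩
    obtain ⟨g₁, b, hgb⟩ := exists_mapGL_of_twist D.ordσ D.rpos e hrange ha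
    set C := g₁.1ᵀ * g₁.1.map (Unitary.conjHom h₀) with hC
    have hCe : C.map e = (((b⁻¹ : Fˣ) : F) * ((b⁻¹ : Fˣ) : F) ^ q) • 1 := by
      have h1 : (mapGL e g₁).1 = ((b⁻¹ : Fˣ) : F) • g.1 := by
        rw [show mapGL e g₁ = scal b⁻¹ * g by
          rw [hgb, ← mul_assoc, ← map_mul, inv_mul_cancel, map_one, one_mul],
          Units.val_mul, scal_coe, smul_mul_assoc, one_mul]
      have h2 : C.map e = (mapGL e g₁).1ᵀ * (mapGL e g₁).1.map (Unitary.conjHom hF) := by
        rw [mapGL_coe, map_conj_embed hF h₀ hqq hro, hC, ← Matrix.transpose_map, ← Matrix.map_mul]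
      have h3 : (((b⁻¹ : Fˣ) : F) • g.1).map (Unitary.conjHom hF)
          = ((b⁻¹ : Fˣ) : F) ^ q • g.1.map (Unitary.conjHom hF) := by ext i j; simp [mul_pow]
      rw [h2, h1, Matrix.transpose_smul, h3, Matrix.smul_mul, Matrix.mul_smul, smul_smul,
        (mem_GU_iff_matrix hF g).1 hg]
    let i₀ : Fin n := ⟨0, by omega⟩
    set w₀ := C i₀ i₀ with hw₀
    have hCw : C = w₀ • 1 := by
      apply Matrix.map_injective e.injective
      show C.map e = _
      rw [hCe]
      have h1 : e w₀ = ((b⁻¹ : Fˣ) : F) * ((b⁻¹ : Fˣ) : F) ^ q := by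
        have := congrFun (congrFun hCe i₀) i₀
        rw [Matrix.map_apply, Matrix.smul_apply, Matrix.one_apply_eq, smul_eq_mul, mul_one] at this
        exact this
      ext i j
      rw [← h1]
      rcases eq_or_ne i j with rfl | hij <;> simp [*]
    have hw0 : w₀ ≠ 0 := by
      intro h0
      have h1 := congrFun (congrFun hCe i₀) i₀
      rw [Matrix.map_apply, ← hw₀, h0, map_zero] at h1
      simp at h1
    have hwq : w₀ ^ q₀ = w₀ := by
      apply e.injective
      rw [← embed_conj hF h₀ hqq hro, Unitary.conjHom_apply]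
      have h1 := congrFun (congrFun hCe i₀) i₀
      rw [Matrix.map_apply, ← hw₀] at h1
      rw [h1]
      simp only [Matrix.smul_apply, Matrix.one_apply_eq, smul_eq_mul, mul_one, mul_pow,
        Unitary.pow_q_pow_q hF]
      ring
    obtain ⟨s, hs⟩ := Unitary.exists_norm_eq h₀ hwq
    have hs0 : s ≠ 0 := fun h => hw0 (by rw [← hs, h, zero_pow (Nat.succ_ne_zero q₀)])
    refine ⟨scal (Units.mk0 s hs0)⁻¹ * g₁, ?_,
      b * Units.map e.toMonoidHom (Units.mk0 s hs0), ?_⟩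
    · rw [mem_GU_iff_matrix h₀, Units.val_mul, scal_coe, smul_mul_assoc, one_mul,
        Matrix.transpose_smul]
      have h3 : (((Units.mk0 s hs0)⁻¹ : F₀ˣ) : F₀) • g₁.1 = s⁻¹ • g₁.1 := by simp
      rw [h3]
      have h4 : (s⁻¹ • g₁.1).map (Unitary.conjHom h₀) = s⁻¹ ^ q₀ • g₁.1.map (Unitary.conjHom h₀) := by
        ext i j; simp [mul_pow]
      rw [h4, Matrix.smul_mul, Matrix.mul_smul, ← hC, hCw, smul_smul, smul_smul]
      simp only [Units.val_inv_eq_inv_val, Units.val_mk0]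
      rw [← pow_succ', inv_pow, hs, inv_mul_cancel₀ hw0, one_smul]
    · rw [map_mul (mapGL e)]
      have h5 : mapGL e (scal (Units.mk0 s hs0)⁻¹)
          = (scal (Units.map e.toMonoidHom (Units.mk0 s hs0))⁻¹ : GL (Fin n) F) := by
        have h6 : ∀ x : F₀ˣ, mapGL e (scal x)
            = (scal (Units.map e.toMonoidHom x) : GL (Fin n) F) := fun x => by
          ext i j
          rcases eq_or_ne i j with rfl | hij <;> simp [scal_coe, *]
        rw [h6, map_inv (Units.map e.toMonoidHom)]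
      rw [h5, ← mul_assoc, ← map_mul, mul_inv_cancel_right]
      exact hgb
  obtain ⟨E⟩ := D.centralizerEquiv e hfix _ hmap hsurj
  -- the splitting
  let μ : Subgroup Fˣ := (powMonoidHom (q + 1) : Fˣ →* Fˣ).ker
  let μ₀ : Subgroup F₀ˣ := (powMonoidHom (q₀ + 1) : F₀ˣ →* F₀ˣ).ker
  have hdetmem : ∀ g : Cfsg.GU n F q, Unitary.detHom n F q g ∈ μ := fun g =>
    (Unitary.detHom_range hF (by omega)).le ⟨g, rfl⟩
  let dt : Cfsg.GU n F q →* μ := (Unitary.detHom n F q).codRestrict μ hdetmem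
  let P : Subgroup μ := (powMonoidHom n : μ →* μ).range
  let χ : Cfsg.GU n F q →* μ ⧸ P := (QuotientGroup.mk' P).comp dt
  let K : Subgroup μ := (fixedUnits σ).subgroupOf μ
  have hdt_scal : ∀ (a : Fˣ) (g h : Cfsg.GU n F q), g.1 = scal a * h.1 →
      (Unitary.detHom n F q g) = a ^ n * Unitary.detHom n F q h := by
    intro a g h hgh
    apply Units.ext
    show g.1.1.det = _
    rw [hgh, Units.val_mul, scal_coe, smul_mul_assoc, one_mul, Matrix.det_smul, Fintype.card_fin]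
    simp [Unitary.detHom]
  have hscal : ∀ (a : Fˣ) (g h : GL (Fin n) F), g ∈ Cfsg.GU n F q → h ∈ Cfsg.GU n F q →
      g = scal a * h → a ∈ μ := by
    intro a g h hg hh hgh
    have ha : (scal a : GL (Fin n) F) ∈ Cfsg.GU n F q :=
      (Subgroup.mul_mem_cancel_right _ hh).1 (hgh ▸ hg)
    rw [mem_GU_iff_matrix hF, scal_coe] at ha
    have h1 := congrFun (congrFun ha ⟨0, by omega⟩) ⟨0, by omega⟩
    refine MonoidHom.mem_ker.2 (Units.ext ?_)
    rw [powMonoidHom_apply, Units.val_pow_eq_pow_val, Units.val_one, pow_succ']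
    rw [smul_one_map_conj hF, Matrix.transpose_smul, Matrix.transpose_one, Matrix.smul_mul,
      Matrix.one_mul, smul_smul, Matrix.smul_apply, Matrix.one_apply_eq, smul_eq_mul, mul_one] at h1
    exact h1
  have hker : ∀ g, χ g = 1 ↔
      conjAut D.rigid.inj _ D.keepS g ∈ Cfsg.Inn (Cfsg.PSU n F q) := by
    intro g
    rw [show χ g = QuotientGroup.mk (dt g) from rfl, QuotientGroup.eq_one_iff,
      conjAut_mem_inn_iff D.rigid _ _ suMat_mem]
    constructor
    · rintro ⟨a, ha⟩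
      have hag : ((a : Fˣ) : Fˣ) ^ n = Unitary.detHom n F q g := congrArg Subtype.val ha
      have ha' : (scal (a : Fˣ)⁻¹ : GL (Fin n) F) * g.1 ∈ (suMat n F q).range := by
        refine mem_suMat_range.2 ⟨mul_mem (scal_mem_GU hF _ ?_) g.2, ?_⟩
        · rw [inv_pow, show (a : Fˣ) ^ (q + 1) = 1 from MonoidHom.mem_ker.1 a.2, inv_one]
        · rw [Units.val_mul, scal_coe, smul_mul_assoc, one_mul, Matrix.det_smul, Fintype.card_fin]
          have h1 : g.1.1.det = ((Unitary.detHom n F q g : Fˣ) : F) := rfl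
          rw [h1, ← hag, ← Units.val_pow_eq_pow_val, ← Units.val_mul, inv_pow, inv_mul_cancel,
            Units.val_one]
      obtain ⟨h, hh⟩ := ha'
      exact ⟨(a : Fˣ), h, by rw [hh, ← mul_assoc, ← map_mul, mul_inv_cancel, map_one, one_mul]⟩
    · rintro ⟨a, h, hgh⟩
      refine ⟨⟨a, hscal a _ _ g.2 (suMat_mem h) hgh⟩, Subtype.ext ?_⟩
      show a ^ n = Unitary.detHom n F q g
      rw [hdt_scal a g ⟨_, suMat_mem h⟩ hgh,
        show Unitary.detHom n F q ⟨_, suMat_mem h⟩ = 1 from Units.ext h.1.2, mul_one]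
  have hsplit := D.splitClassCount_eq χ (inn_le_range _ _ _ suMat_mem) hker
  have hdetmap : ∀ g₀ : Cfsg.GU n F₀ q₀, Unitary.detHom n F q ⟨_, hmap g₀.1 g₀.2⟩
      = Units.map e.toMonoidHom (Unitary.detHom n F₀ q₀ g₀) := fun g₀ =>
    Units.ext (RingHom.map_det e g₀.1.1).symm
  have hKmap : K.map μ.subtype = μ₀.map (Units.map e.toMonoidHom) := by
    rw [Subgroup.subgroupOf_map_subtype]
    ext u
    constructor
    · intro hu
      obtain ⟨hu2, hu1⟩ := Subgroup.mem_inf.1 hu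
      obtain ⟨x, hx⟩ := hrange _ (mem_fixedUnits.1 hu2)
      have hx0 : x ≠ 0 := fun h => u.ne_zero (by rw [← hx, h, map_zero])
      refine ⟨Units.mk0 x hx0, MonoidHom.mem_ker.2 (Units.ext (e.injective ?_)), Units.ext hx⟩
      have h1 : (u : F) ^ (q + 1) = 1 := by
        simpa using congrArg Units.val (MonoidHom.mem_ker.1 hu1)
      rw [powMonoidHom_apply, Units.val_pow_eq_pow_val, Units.val_mk0, Units.val_one, map_one,
        pow_succ', map_mul, ← embed_conj hF h₀ hqq hro, Unitary.conjHom_apply, hx, ← pow_succ']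
      exact h1
    · rintro ⟨v, hv, rfl⟩
      refine Subgroup.mem_inf.2 ⟨mem_fixedUnits.2 (hfix _), MonoidHom.mem_ker.2 (Units.ext ?_)⟩
      have h1 : (v : F₀) ^ (q₀ + 1) = 1 := by
        simpa using congrArg Units.val (MonoidHom.mem_ker.1 hv)
      show e (v : F₀) ^ (q + 1) = 1
      rw [pow_succ', ← Unitary.conjHom_apply hF, embed_conj hF h₀ hqq hro, ← map_mul, ← pow_succ',
        h1, map_one]
  have himg : D.fixS.map χ = K.map (QuotientGroup.mk' P) := by
    ext y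
    constructor
    · rintro ⟨g, hg, rfl⟩
      obtain ⟨g₀, hg₀, b, hgb⟩ := hsurj g.1 g.2 (D.mem_fixS.1 hg)
      have hb := hscal b _ _ g.2 (hmap g₀ hg₀) hgb
      have h1 := hdt_scal b g ⟨_, hmap g₀ hg₀⟩ hgb
      rw [hdetmap ⟨g₀, hg₀⟩] at h1
      obtain ⟨k, hk, hk'⟩ : Units.map e.toMonoidHom (Unitary.detHom n F₀ q₀ ⟨g₀, hg₀⟩) ∈
          K.map μ.subtype := by
        rw [hKmap]
        exact ⟨_, (Unitary.detHom_range h₀ (by omega)).le ⟨_, rfl⟩, rfl⟩
      refine ⟨k, hk, ?_⟩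
      show QuotientGroup.mk k = QuotientGroup.mk (dt g)
      rw [QuotientGroup.eq]
      refine ⟨⟨b, hb⟩, Subtype.ext ?_⟩
      show b ^ n = (k : Fˣ)⁻¹ * Unitary.detHom n F q g
      rw [h1, show (k : Fˣ) = Units.map e.toMonoidHom (Unitary.detHom n F₀ q₀ ⟨g₀, hg₀⟩) from hk',
        mul_comm (b ^ n), inv_mul_cancel_left]
    · rintro ⟨k, hk, rfl⟩
      obtain ⟨v, hv, hvk⟩ : (k : Fˣ) ∈ μ₀.map (Units.map e.toMonoidHom) :=
        hKmap ▸ ⟨k, hk, rfl⟩
      obtain ⟨g₀, hg₀⟩ := (Unitary.detHom_range h₀ (show 1 ≤ n by omega)).ge hv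
      refine ⟨⟨_, hmap g₀.1 g₀.2⟩, D.mem_fixS.2 ⟨1, by
        rw [map_one, one_mul]; exact galGL_mapGL e hfix g₀.1⟩, ?_⟩
      show QuotientGroup.mk (dt _) = QuotientGroup.mk k
      congr 1
      refine Subtype.ext ?_
      show Unitary.detHom n F q _ = _
      rw [hdetmap, hg₀, hvk]
  have hrange' : χ.range = ⊤ := by
    rw [MonoidHom.range_eq_top]
    intro y
    obtain ⟨u, rfl⟩ := QuotientGroup.mk_surjective y
    obtain ⟨g, hg⟩ := (Unitary.detHom_range hF (show 1 ≤ n by omega)).ge u.2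
    exact ⟨g, congrArg QuotientGroup.mk (Subtype.ext hg : dt g = u)⟩
  rw [himg, hrange', Subgroup.relIndex_top_right, Subgroup.index_map,
    MonoidHom.range_eq_top.2 (QuotientGroup.mk'_surjective P), Subgroup.index_top, mul_one,
    QuotientGroup.ker_mk', sup_comm, index_pow_sup] at hsplit
  have hcardK : Nat.card K = q₀ + 1 := by
    rw [← Subgroup.card_map_of_injective μ.subtype_injective, hKmap,
      Subgroup.card_map_of_injective (Units.map_injective (f := e.toMonoidHom) e.injective),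
      IsCyclic.card_powMonoidHom_ker, Unitary.card_units h₀,
      Nat.gcd_eq_right (Unitary.q_succ_dvd q₀)]
  have hcardμ : Nat.card μ = q + 1 := by
    rw [IsCyclic.card_powMonoidHom_ker, Unitary.card_units hF,
      Nat.gcd_eq_right (Unitary.q_succ_dvd q)]
  have hidx : K.index = (q + 1) / (q₀ + 1) :=
    (Nat.div_eq_of_eq_mul_left (show 0 < q₀ + 1 by omega)
      (by rw [← hcardμ, ← hcardK, Subgroup.index_mul_card])).symm
  rw [← hG]
  refine ⟨hrf, ⟨(centralizerConjEquiv hα hαx).trans E⟩, ?_⟩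
  rw [splitClassCount_conj hα hαx, hsplit, hidx, Nat.gcd_comm]

end Cfsg.Agent.FieldAut
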