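import Cfsg.Agent.Lib.FieldAut.Tools
import Cfsg.Agent.Lib.Orth.Simple

/-!
# Automorphisms of `PΩ(Q)` induced by semisimilarities: the carrier

* `omMat`, `keep_conj_sim`, `keep_gal_om`, `isInd_semilinear_om`, `isInd_fieldAut_om`,
  `simGroup_normalizer` (similarities are stable under semisimilarities).
* `omRigid` : for `n ≥ 5` the unipotent elements of `Ω` commute only with scalars.
* `exists_descended_form`, `similarity_of_descended` : Lang's theorem for similarity groups, up to the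
  classification of forms over the fixed field.
-/

set_option autoImplicit false

namespace Cfsg.Agent.FieldAut

open scoped MatrixGroups Matrix
open Cfsg.Agent.Orth (IsoGrp ap eich)
open QuadraticMap (polar)

variable {ι : Type} [Fintype ι] [DecidableEq ι] {F : Type*} [Field F] {Qf : (ι → F) → F}

/-- `Ω(Q)` as matrices. -/
noncomputable def omMat (Qf : (ι → F) → F) : ↥(Cfsg.Omega F Qf) →* GL ι F :=
  (Cfsg.isometryGroup F Qf).subtype.comp (Cfsg.Omega F Qf).subtype

theorem omMat_injective : Function.Injective (omMat Qf) :=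
  Subtype.val_injective.comp Subtype.val_injective

theorem omMat_range : (omMat Qf).range
    = ⁅Cfsg.isometryGroup F Qf, Cfsg.isometryGroup F Qf⁆ := by
  rw [omMat, MonoidHom.range_comp, Subgroup.range_subtype]
  show Subgroup.map _ (commutator _) = _
  rw [commutator_def, Subgroup.map_commutator, ← MonoidHom.range_eq_map, Subgroup.range_subtype]

theorem mem_keep_om {ψ : MulAut (GL ι F)}
    (h : ∀ x, x ∈ Cfsg.isometryGroup F Qf ↔ ψ x ∈ Cfsg.isometryGroup F Qf) : ψ ∈ keep (omMat Qf) := by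
  have hmap : (Cfsg.isometryGroup F Qf).map ψ.toMonoidHom = Cfsg.isometryGroup F Qf := by
    ext x
    constructor
    · rintro ⟨y, hy, rfl⟩; exact (h y).1 hy
    · intro hx
      refine ⟨ψ.symm x, ?_, ψ.apply_symm_apply x⟩
      show ψ.symm x ∈ Cfsg.isometryGroup F Qf
      rw [h, ψ.apply_symm_apply]
      exact hx
  intro x
  rw [omMat_range]
  conv_lhs => rw [← hmap, ← Subgroup.map_commutator]
  constructor
  · rintro ⟨y, hy, e⟩
    rwa [← ψ.injective e]
  · intro hx; exact ⟨x, hx, rfl⟩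

theorem mem_iso_iff {g : GL ι F} :
    g ∈ Cfsg.isometryGroup F Qf ↔ ∀ v, Qf ((g : Matrix ι ι F) *ᵥ v) = Qf v :=
  ⟨fun h v => h v v, fun h v _ => h v⟩

theorem iso_le_sim {g : GL ι F} (hg : g ∈ Cfsg.isometryGroup F Qf) :
    g ∈ Cfsg.Geo.quadSimilarityGroup (F := F) Qf :=
  ⟨1, fun v => by rw [Units.val_one, one_mul]; exact mem_iso_iff.1 hg v⟩

theorem omMat_mem_sim (a : ↥(Cfsg.Omega F Qf)) :
    omMat Qf a ∈ Cfsg.Geo.quadSimilarityGroup (F := F) Qf := iso_le_sim a.1.2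

theorem keep_conj_sim {g : GL ι F} (hg : g ∈ Cfsg.Geo.quadSimilarityGroup (F := F) Qf) :
    MulAut.conj g ∈ keep (omMat Qf) := by
  have key : ∀ g ∈ Cfsg.Geo.quadSimilarityGroup (F := F) Qf, ∀ x ∈ Cfsg.isometryGroup F Qf,
      g * x * g⁻¹ ∈ Cfsg.isometryGroup F Qf := by
    rintro g ⟨c, hc⟩ x hx
    refine mem_iso_iff.2 fun v => ?_
    rw [Units.val_mul, Units.val_mul, ← Matrix.mulVec_mulVec, ← Matrix.mulVec_mulVec, hc,
      mem_iso_iff.1 hx, ← hc, Matrix.mulVec_mulVec, ← Units.val_mul, mul_inv_cancel,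
      Units.val_one, Matrix.one_mulVec]
  refine mem_keep_om fun x => ⟨key g hg x, fun hx => ?_⟩
  have := key g⁻¹ (inv_mem hg) _ hx
  simpa [MulAut.conj_apply, mul_assoc] using this

/-- The coefficients of the form are fixed by `σ`. -/
def CoeffFixed (Qf : (ι → F) → F) (σ : F ≃+* F) : Prop := ∀ v, Qf (σ ∘ v) = σ (Qf v)

theorem CoeffFixed.symm {σ : F ≃+* F} (h : CoeffFixed Qf σ) : CoeffFixed Qf σ.symm := by
  intro v
  have h1 := h (σ.symm ∘ v)
  rw [show σ ∘ σ.symm ∘ v = v from funext fun i => σ.apply_symm_apply (v i)] at h1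
  rw [h1, σ.symm_apply_apply]

theorem galGL_mulVec (σ : F ≃+* F) (g : GL ι F) (v : ι → F) :
    (galGL σ g : GL ι F).1 *ᵥ (σ ∘ v) = σ ∘ (g.1 *ᵥ v) := by
  funext i
  rw [galGL_apply_coe]
  simp [Matrix.mulVec, dotProduct]

theorem galGL_sim {σ : F ≃+* F} (hσ : CoeffFixed Qf σ) {g : GL ι F}
    (hg : g ∈ Cfsg.Geo.quadSimilarityGroup (F := F) Qf) :
    galGL σ g ∈ Cfsg.Geo.quadSimilarityGroup (F := F) Qf := by
  obtain ⟨c, hc⟩ := hg
  refine ⟨Units.map σ.toMonoidHom c, fun v => ?_⟩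
  obtain ⟨w, rfl⟩ : ∃ w, v = σ ∘ w := ⟨σ.symm ∘ v, funext fun i => (σ.apply_symm_apply (v i)).symm⟩
  rw [galGL_mulVec, hσ, hc, map_mul, hσ]
  rfl

theorem galGL_iso {σ : F ≃+* F} (hσ : CoeffFixed Qf σ) {g : GL ι F}
    (hg : g ∈ Cfsg.isometryGroup F Qf) : galGL σ g ∈ Cfsg.isometryGroup F Qf := by
  refine mem_iso_iff.2 fun v => ?_
  obtain ⟨w, rfl⟩ : ∃ w, v = σ ∘ w := ⟨σ.symm ∘ v, funext fun i => (σ.apply_symm_apply (v i)).symm⟩
  rw [galGL_mulVec, hσ, hσ, mem_iso_iff.1 hg]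

theorem galGL_symm_apply (σ : F ≃+* F) (x : GL ι F) : galGL σ.symm (galGL σ x) = x := by
  ext i j; simp [galGL_apply]

theorem keep_gal_om {σ : F ≃+* F} (hσ : CoeffFixed Qf σ) : galGL σ ∈ keep (omMat Qf) := by
  refine mem_keep_om fun x => ⟨galGL_iso hσ, fun hx => ?_⟩
  have := galGL_iso hσ.symm hx
  rwa [galGL_symm_apply] at this

theorem isInd_semilinear_om (g : GL ι F) (σ : F ≃+* F)
    (β : Cfsg.POmega F Qf ≃* Cfsg.POmega F Qf) :
    Cfsg.IsInducedBySemilinearPOmega Qf g σ β ↔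
      IsInd (omMat Qf) (MulAut.conj g * galGL σ : MulAut (GL ι F)) β :=
  ⟨fun h a a' ha => h a a' (congrArg Units.val ha :),
    fun h a a' ha => h a a' (Units.ext ha)⟩

theorem isInd_fieldAut_om (σ : F ≃+* F) (β : Cfsg.POmega F Qf ≃* Cfsg.POmega F Qf) :
    Cfsg.IsFieldAutPOmegaOf Qf σ β ↔ IsInd (omMat Qf) (galGL σ) β :=
  ⟨fun h a a' ha => h a a' (congrArg Units.val ha :),
    fun h a a' ha => h a a' (Units.ext ha)⟩

theorem isInd_simInduced (β : Cfsg.POmega F Qf ≃* Cfsg.POmega F Qf) :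
    Cfsg.IsSimilarityInducedAutPOmega Qf β ↔
      ∃ g ∈ Cfsg.Geo.quadSimilarityGroup (F := F) Qf, IsInd (omMat Qf) (MulAut.conj g) β := by
  have e : galGL (RingEquiv.refl F) = (1 : MulAut (GL ι F)) := map_one galGL
  refine exists_congr fun g => and_congr_right fun _ => ?_
  rw [isInd_semilinear_om, e, mul_one]

theorem sim_of_semisimilarity {σ : F ≃+* F} (hσ : CoeffFixed Qf σ) {g : GL ι F}
    (hg : Cfsg.IsSemisimilarityPair Qf g σ) :
    g ∈ Cfsg.Geo.quadSimilarityGroup (F := F) Qf := by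
  obtain ⟨c, hc⟩ := hg
  refine ⟨c, fun v => ?_⟩
  have h1 := hc (σ.symm ∘ v)
  rw [show (fun i => σ ((σ.symm ∘ v) i)) = v from funext fun i => σ.apply_symm_apply (v i),
    hσ.symm v, σ.apply_symm_apply] at h1
  exact h1

/-! ### Eichler transformations and rigidity -/

variable {Q : QuadraticForm F (ι → F)}

theorem eich_unipotent {u w : ι → F} (hu : Q u = 0) (hw : polar ⇑Q u w = 0) :
    IsNilpotent (((eich Q u w : GL ι F) : Matrix ι ι F) - 1) := by
  refine ⟨3, Matrix.ext_of_mulVec_single fun i => ?_⟩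
  set M := ((eich Q u w : GL ι F) : Matrix ι ι F) - 1 with hM
  have hD : ∀ x, M *ᵥ x
      = polar ⇑Q u x • w - (polar ⇑Q w x + Q w * polar ⇑Q u x) • u := fun x => by
    rw [hM, Matrix.sub_mulVec, Matrix.one_mulVec, ← Orth.ap_apply, Orth.eich_ap hu hw,
      add_sub_assoc, add_sub_cancel_left]
  have h0 : M *ᵥ u = 0 := by
    rw [hD, Orth.pl_self, hu, mul_zero, zero_smul, Orth.pl_comm Q w u, hw, mul_zero, add_zero,
      zero_smul, sub_zero]
  rw [pow_succ, pow_succ, pow_one, ← Matrix.mulVec_mulVec, ← Matrix.mulVec_mulVec,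
    Matrix.zero_mulVec, hD (Pi.single i 1), Matrix.mulVec_sub, Matrix.mulVec_sub,
    Matrix.mulVec_smul, Matrix.mulVec_smul, Matrix.mulVec_smul, h0, smul_zero, Matrix.mulVec_zero,
    sub_zero, hD w, hw, zero_smul, zero_sub, Matrix.mulVec_neg, Matrix.mulVec_smul,
    h0, smul_zero, neg_zero, smul_zero]

variable [Fintype F]

theorem exists_pair_in_perp (hQ : Q.polarBilin.Nondegenerate) {e f : ι → F}
    (h : Orth.HPair Q e f) (hn : 4 ≤ Fintype.card ι) {w : ι → F} (hw : w ∈ Orth.perp Q e f)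
    (hw0 : w ≠ 0) :
    ∃ y ∈ Orth.perp Q e f, (∀ c : F, y ≠ c • w) ∧ polar ⇑Q w y ≠ 0 := by
  obtain ⟨y, hy, hyw⟩ := h.perp_nondeg hQ hw hw0
  by_cases hc : ∀ c : F, y ≠ c • w
  · exact ⟨y, hy, hc, hyw⟩
  · push Not at hc
    obtain ⟨c, rfl⟩ := hc
    have hlt : Submodule.span F {w} < Orth.perp Q e f := by
      refine lt_of_le_of_ne ((Submodule.span_singleton_le_iff_mem _ _).2 hw) fun h0 => ?_
      have h1 := Orth.card_le_finrank_perp (Q := Q) e f
      rw [← h0, finrank_span_singleton hw0] at h1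
      omega
    obtain ⟨z, hz, hzw⟩ := SetLike.exists_of_lt hlt
    have hz' : ∀ d : F, z ≠ d • w := fun d hd => hzw (Submodule.mem_span_singleton.2 ⟨d, hd.symm⟩)
    by_cases hwz : polar ⇑Q w z = 0
    · refine ⟨c • w + z, add_mem hy hz, fun d hd => hz' (d - c) ?_, by
        rw [Orth.pl_add_right, hwz, add_zero]; exact hyw⟩
      rw [sub_smul, ← hd, add_sub_cancel_left]
    · exact ⟨z, hz, hz', hwz⟩

theorem HPair.coeffs {e f x : ι → F} (h : Orth.HPair Q e f) (hx : x ∈ Orth.perp Q e f) {α β : F}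
    (h0 : α • e + x + β • f = 0) : α = 0 ∧ β = 0 ∧ x = 0 := by
  obtain ⟨hxe, hxf⟩ := Orth.mem_perp.1 hx
  have h1 := congrArg (polar ⇑Q e) h0
  have h2 := congrArg (polar ⇑Q f) h0
  simp only [Orth.pl_add_right, Orth.pl_smul_right, Orth.pl_self, h.qe, h.qf, mul_zero, hxe, hxf,
    h.pf, Orth.pl_comm Q f e, mul_one, zero_add, add_zero, Orth.pl_zero_right] at h1 h2
  subst h1 h2
  simpa using h0

theorem mem_scalars_of_singular_eigen (hQ : Q.polarBilin.Nondegenerate)
    (hn : 4 ≤ Fintype.card ι) (g : GL ι F)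
    (hg : ∀ v, v ≠ 0 → Q v = 0 → ∃ a : F, g.1 *ᵥ v = a • v) :
    g ∈ Cfsg.Geo.scalars ι F := by
  obtain ⟨e, f, h⟩ := Orth.exists_hpair hQ (by omega)
  obtain ⟨a, ha⟩ := hg e h.ne_zero h.qe
  obtain ⟨b, hb⟩ := hg f h.swap.ne_zero h.qf
  have hlam : ∀ w ∈ Orth.perp Q e f, ∃ l : F,
      g.1 *ᵥ w = (l - a) • e + l • w + (-(Q w * (l - b))) • f := by
    intro w hw
    have hQv : Q (1 • e + (-Q w) • f + w) = 0 := by
      rw [one_smul, ← one_smul F e, h.Q_comb hw]; ring
    have hv0 : 1 • e + (-Q w) • f + w ≠ 0 := fun h0 => by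
      have := (HPair.coeffs h hw (α := 1) (β := -Q w) (by rw [← h0]; module)).1
      exact one_ne_zero this
    obtain ⟨l, hl⟩ := hg _ hv0 hQv
    refine ⟨l, ?_⟩
    rw [Matrix.mulVec_add, Matrix.mulVec_add, Matrix.mulVec_smul, Matrix.mulVec_smul, ha, hb] at hl
    linear_combination (norm := module) hl
  have hw_eq : ∀ w ∈ Orth.perp Q e f, w ≠ 0 → a = b ∧ g.1 *ᵥ w = a • w := by
    intro w hw hw0
    obtain ⟨y, hy, hind, hwy⟩ := exists_pair_in_perp hQ h hn hw hw0
    obtain ⟨l, hl⟩ := hlam w hw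
    obtain ⟨l', hl'⟩ := hlam y hy
    obtain ⟨L, hL⟩ := hlam _ (add_mem hw hy)
    rw [Matrix.mulVec_add, hl, hl'] at hL
    have key := HPair.coeffs h (x := (l - L) • w + (l' - L) • y)
      (add_mem (Submodule.smul_mem _ _ hw) (Submodule.smul_mem _ _ hy))
      (α := (l - a) + (l' - a) - (L - a))
      (β := -(Q w * (l - b)) - Q y * (l' - b) + Q (w + y) * (L - b))
      (by linear_combination (norm := module) hL)
    obtain ⟨k1, k2, k3⟩ := key
    have hly : l' = L := by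
      by_contra hne
      refine hind (-((l' - L)⁻¹ * (l - L))) ?_
      have := congrArg (fun z => (l' - L)⁻¹ • z) k3
      simp only [smul_add, smul_smul, smul_zero, inv_mul_cancel₀ (sub_ne_zero.2 hne), one_smul]
        at this
      rw [neg_smul]
      exact eq_neg_of_add_eq_zero_right this
    have hlw : l = L := by
      rw [hly, sub_self, zero_smul, add_zero, smul_eq_zero] at k3
      exact sub_eq_zero.1 (k3.resolve_right hw0)
    have hla : L = a := by rw [hly, hlw] at k1; linear_combination k1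
    have hab : a = b := by
      rw [hly, hlw, hla, Orth.Q_add] at k2
      have : polar ⇑Q w y * (a - b) = 0 := by linear_combination k2
      exact sub_eq_zero.1 ((mul_eq_zero.1 this).resolve_left hwy)
    refine ⟨hab, ?_⟩
    rw [hl, hlw, hla, ← hab]
    module
  obtain ⟨w₁, hw₁, hw₁0⟩ := h.exists_nonsing_perp hQ (by omega)
  have hab : a = b := (hw_eq w₁ hw₁ fun h0 => hw₁0 (by rw [h0, QuadraticMap.map_zero])).1
  have hall : ∀ x, g.1 *ᵥ x = a • x := by
    intro x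
    have hp := h.wPart_mem x
    rw [Orth.decomp e f x, Matrix.mulVec_add, Matrix.mulVec_add, Matrix.mulVec_smul,
      Matrix.mulVec_smul, ha, hb, ← hab]
    rcases eq_or_ne (Orth.wPart Q e f x) 0 with h0 | h0
    · rw [h0, Matrix.mulVec_zero]; module
    · rw [(hw_eq _ hp h0).2]; module
  refine mem_scalars_of_eigen g fun v _ => ⟨a, hall v⟩

theorem omRigid (hQ : Q.polarBilin.Nondegenerate) (hn : 5 ≤ Fintype.card ι) :
    Rigid (omMat ⇑Q) where
  inj := omMat_injective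
  commutant g hg := by
    refine mem_scalars_of_singular_eigen hQ (by omega) g fun u hu0 hu => ?_
    obtain ⟨f, h⟩ := Orth.exists_hpair_left hQ hu hu0
    have hstep : ∀ w ∈ Orth.perp Q u f, w ≠ 0 →
        ∃ α β : F, g.1 *ᵥ u = α • u + β • w := by
      intro w hw hw0
      obtain ⟨y, hy, -, hwy⟩ := exists_pair_in_perp hQ h (by omega) hw hw0
      obtain ⟨huw, -⟩ := Orth.mem_perp.1 hw
      obtain ⟨huy, -⟩ := Orth.mem_perp.1 hy
      have hmem : eich Q u w ∈ Cfsg.Omega F ⇑Q :=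
        Orth.eichGen_le_omega hQ (by omega) (.inr hn) (Orth.eich_mem_eichGen u w)
      have hc := hg ⟨_, hmem⟩ (eich_unipotent hu huw)
      have h1 := congrArg (fun k : GL ι F => (k : Matrix ι ι F) *ᵥ y) hc.eq
      simp only [Units.val_mul, ← Matrix.mulVec_mulVec] at h1
      have h2 : ∀ x, ((omMat ⇑Q ⟨_, hmem⟩ : GL ι F) : Matrix ι ι F) *ᵥ x = ap (eich Q u w) x :=
        fun x => rfl
      simp only [h2, Orth.eich_ap hu huw, huy, zero_smul, add_zero, mul_zero,
        Matrix.mulVec_sub, Matrix.mulVec_smul] at h1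
      refine ⟨(polar ⇑Q w y)⁻¹ *
        (polar ⇑Q w (g.1 *ᵥ y) + Q w * polar ⇑Q u (g.1 *ᵥ y)),
        -((polar ⇑Q w y)⁻¹ * polar ⇑Q u (g.1 *ᵥ y)), ?_⟩
      rw [← inv_smul_smul₀ hwy (g.1 *ᵥ u), neg_smul, mul_smul, mul_smul, ← sub_eq_add_neg,
        ← smul_sub]
      congr 1
      linear_combination (norm := module) -h1
    have hr : 3 ≤ Module.finrank F (Orth.perp Q u f) := by
      have := Orth.card_le_finrank_perp (Q := Q) u f; omega
    obtain ⟨w, hw, hw0⟩ := (Submodule.ne_bot_iff (Orth.perp Q u f)).1 fun h0 => by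
      rw [h0, finrank_bot] at hr; omega
    obtain ⟨y, hy, hind, -⟩ := exists_pair_in_perp hQ h (by omega) hw hw0
    obtain ⟨α, β, h1⟩ := hstep w hw hw0
    obtain ⟨α', β', h2⟩ := hstep y hy fun h0 => hind 0 (by rw [h0, zero_smul])
    have key := HPair.coeffs h (x := β • w - β' • y)
      (sub_mem (Submodule.smul_mem _ _ hw) (Submodule.smul_mem _ _ hy)) (α := α - α') (β := 0)
      (by linear_combination (norm := module) h2 - h1)
    obtain ⟨-, -, k3⟩ := key
    rcases eq_or_ne β' 0 with hb | hb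
    · refine ⟨α', by rw [h2, hb, zero_smul, add_zero]⟩
    · exact absurd (by rw [mul_smul, sub_eq_zero.1 k3, inv_smul_smul₀ hb]) (hind (β'⁻¹ * β))

/-! ### Descent -/

/-- Forms agreeing on the vectors over a subfield are equal. -/
theorem quadForm_ext_of_subfield {F₀ : Type*} [Field F₀] (e : F₀ →+* F)
    (Q₁ Q₂ : QuadraticForm F (ι → F)) (h : ∀ v : ι → F₀, Q₁ (e ∘ v) = Q₂ (e ∘ v)) : Q₁ = Q₂ := by
  classical
  have hs : ∀ i, e ∘ (Pi.single i (1 : F₀)) = (Pi.single i (1 : F) : ι → F) := fun i => by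
    funext j; simp [Pi.single_apply, apply_ite e]
  have hd : ∀ i, Q₁ (Pi.single i 1) = Q₂ (Pi.single i 1) := fun i => by rw [← hs i]; exact h _
  have hp : ∀ i j, polar ⇑Q₁ (Pi.single i 1) (Pi.single j 1)
      = polar ⇑Q₂ (Pi.single i 1) (Pi.single j 1) := fun i j => by
    have hadd : (Pi.single i (1 : F) : ι → F) + Pi.single j 1
        = e ∘ (Pi.single i (1 : F₀) + Pi.single j 1) := by
      rw [← hs i, ← hs j]; funext k; simp
    simp only [polar, hd, hadd, h]
  have hB : Q₁.polarBilin = Q₂.polarBilin :=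
    LinearMap.BilinForm.ext_basis (Pi.basisFun F ι) fun i j => by
      simpa [Pi.basisFun_apply] using hp i j
  refine QuadraticMap.ext fun x => ?_
  rw [pi_eq_sum_univ' x]
  induction (Finset.univ : Finset ι) using Finset.induction with
  | empty => simp
  | insert i s hi ih =>
    rw [Finset.sum_insert hi, QuadraticMap.map_add ⇑Q₁, QuadraticMap.map_add ⇑Q₂, ih,
      QuadraticMap.map_smul, QuadraticMap.map_smul, hd]
    congr 1
    exact LinearMap.congr_fun (LinearMap.congr_fun hB _) _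

section Descent

variable {F₀ : Type*} [Field F₀] {e : F₀ →+* F} {σ : F ≃+* F} {r : ℕ}

omit [DecidableEq ι] in
theorem map_mulVec_embed (M : Matrix ι ι F₀) (v : ι → F₀) :
    M.map e *ᵥ (e ∘ v) = e ∘ (M *ᵥ v) :=
  funext fun i => (RingHom.map_mulVec e M v i).symm

/-- A twisted similarity leaves a form over the fixed field. -/
theorem exists_descended_form (hnd : Q.polarBilin.Nondegenerate) [Nonempty ι]
    (hσQ : CoeffFixed ⇑Q σ) (hσ : orderOf σ = r) (hr : 0 < r) (hfix : ∀ x, σ (e x) = e x)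
    (hrange : ∀ x, σ x = x → x ∈ Set.range e) {g : GL ι F}
    (hg : g ∈ Cfsg.Geo.quadSimilarityGroup (F := F) ⇑Q) {z : Fˣ} (hz : twNorm σ r g = scal z) :
    ∃ (a d : Fˣ) (k : GL ι F) (Q₀ : QuadraticForm F₀ (ι → F₀)),
      g = scal a * (k * (galGL σ k)⁻¹) ∧ Q₀.polarBilin.Nondegenerate ∧
      ∀ v : ι → F₀, Q (k.1 *ᵥ (e ∘ v)) = (d : F) * e (Q₀ v) := by
  classical
  obtain ⟨a, k, hgk⟩ := exists_twist_of_scalar hσ hr hz
  obtain ⟨c, hc⟩ := hg
  have hσk' : g * galGL σ k = scal a * k := by rw [hgk, mul_assoc, inv_mul_cancel_right]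
  let f : (ι → F₀) → F := fun v => Q (k.1 *ᵥ (e ∘ v))
  have hsigma : ∀ v, σ (f v) = ((a * a * c⁻¹ : Fˣ) : F) * f v := by
    intro v
    have h1 : σ ∘ (e ∘ v) = e ∘ v := funext fun i => hfix (v i)
    have h2 : g.1 *ᵥ ((galGL σ k).1 *ᵥ (e ∘ v)) = (a : F) • (k.1 *ᵥ (e ∘ v)) := by
      rw [Matrix.mulVec_mulVec, ← Units.val_mul, hσk', Units.val_mul, scal_coe, smul_mul_assoc,
        one_mul, Matrix.smul_mulVec]
    have h3 : Q (g.1 *ᵥ ((galGL σ k).1 *ᵥ (e ∘ v))) = (c : F) * σ (f v) := by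
      rw [hc]
      congr 1
      conv_lhs => rw [← h1, galGL_mulVec]
      exact hσQ _
    rw [h2, QuadraticMap.map_smul, smul_eq_mul] at h3
    push_cast
    field_simp
    linear_combination -h3
  have hne : ∃ v, f v ≠ 0 := by
    by_contra! h0
    have hz' : (Q.comp (Matrix.mulVecLin k.1)) = 0 :=
      quadForm_ext_of_subfield e _ _ fun v => by simpa [f] using h0 v
    obtain ⟨i⟩ := ‹Nonempty ι›
    obtain ⟨y, hy⟩ := Orth.exists_polar_ne hnd (x := Pi.single i 1) (by simp)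
    have hQ0 : ∀ x, Q x = 0 := fun x => by
      have := QuadraticMap.congr_fun hz' ((k⁻¹ : GL ι F).1 *ᵥ x)
      simpa [Matrix.mulVec_mulVec, ← Units.val_mul] using this
    exact hy (by simp [polar, hQ0])
  obtain ⟨d, -, hd⟩ := exists_fixed_multiple hσ hr hne hsigma
  choose q₀ hq₀ using fun v => hrange _ (hd v)
  have hq : ∀ v, e (q₀ v) = ((d⁻¹ : Fˣ) : F) * Q (k.1 *ᵥ (e ∘ v)) := hq₀
  have hadd : ∀ u v : ι → F₀, e ∘ (u + v) = e ∘ u + e ∘ v := fun u v => funext fun i => map_add e _ _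
  have hsmul : ∀ (s : F₀) (v : ι → F₀), e ∘ (s • v) = e s • (e ∘ v) := fun s v =>
    funext fun i => map_mul e _ _
  have hpol : ∀ u v, e (polar q₀ u v)
      = ((d⁻¹ : Fˣ) : F) * polar ⇑Q (k.1 *ᵥ (e ∘ u)) (k.1 *ᵥ (e ∘ v)) := fun u v => by
    simp only [polar, map_sub, hq, hadd, Matrix.mulVec_add]; ring
  let Q₀ : QuadraticForm F₀ (ι → F₀) := QuadraticMap.ofPolar q₀
    (fun s v => e.injective (by
      rw [hq, hsmul, Matrix.mulVec_smul, QuadraticMap.map_smul, smul_eq_mul, smul_eq_mul, map_mul,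
        map_mul, hq]
      ring))
    (fun u u' v => e.injective (by
      rw [map_add, hpol, hpol, hpol, hadd, Matrix.mulVec_add, Orth.pl_add_left, mul_add]))
    (fun s u v => e.injective (by
      rw [hpol, hsmul, Matrix.mulVec_smul, Orth.pl_smul_left, smul_eq_mul, map_mul, hpol]
      ring))
  refine ⟨a, d, k, Q₀, hgk, ?_, fun v => ?_⟩
  · refine ⟨fun x hx => ?_, fun x hx => ?_⟩
    all_goals
      have hx' : ∀ i, polar ⇑Q (k.1 *ᵥ (e ∘ x)) (k.1 *ᵥ Pi.single i 1) = 0 := fun i => by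
        have h1 : polar q₀ x (Pi.single i 1) = 0 := by
          first
            | exact hx (Pi.single i 1)
            | exact (QuadraticMap.polar_comm _ _ _).trans (hx (Pi.single i 1))
        have h2 := hpol x (Pi.single i 1)
        rw [h1, map_zero, show e ∘ Pi.single i (1 : F₀) = (Pi.single i (1 : F) : ι → F) by
          funext j; simp [Pi.single_apply, apply_ite e]] at h2
        exact (mul_eq_zero.1 h2.symm).resolve_left (d⁻¹).ne_zero
      have h3 : k.1 *ᵥ (e ∘ x) = 0 := by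
        by_contra hne'
        obtain ⟨y, hy⟩ := Orth.exists_polar_ne hnd hne'
        apply hy
        have h4 : ∀ w, polar ⇑Q (k.1 *ᵥ (e ∘ x)) (k.1 *ᵥ w) = 0 := by
          intro w
          rw [pi_eq_sum_univ' w, Matrix.mulVec_sum]
          exact (map_sum (Q.polarBilin (k.1 *ᵥ (e ∘ x))) _ _).trans
            (Finset.sum_eq_zero fun i _ => by
              rw [Matrix.mulVec_smul, map_smul, QuadraticMap.polarBilin_apply_apply, hx' i,
                smul_zero])
        have h5 := h4 ((k⁻¹ : GL ι F).1 *ᵥ y)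
        rwa [Matrix.mulVec_mulVec, ← Units.val_mul, mul_inv_cancel, Units.val_one,
          Matrix.one_mulVec] at h5
      have h4 := congrArg (fun w => (k⁻¹ : GL ι F).1 *ᵥ w) h3
      rw [Matrix.mulVec_mulVec, ← Units.val_mul, inv_mul_cancel, Units.val_one,
        Matrix.one_mulVec, Matrix.mulVec_zero] at h4
      exact funext fun i => e.injective ((congrFun h4 i).trans (map_zero e).symm)
  · show _ = (d : F) * e (q₀ v)
    rw [hq, ← mul_assoc, ← Units.val_mul, mul_inv_cancel, Units.val_one, one_mul]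

/-- If the descended form is similar to the model, the similarity is twisted. -/
theorem similarity_of_descended (Qm : QuadraticForm F₀ (ι → F₀))
    (hQm : ∀ v, Q (e ∘ v) = e (Qm v)) (hfix : ∀ x, σ (e x) = e x) {g k : GL ι F} {a d : Fˣ}
    (hgk : g = scal a * (k * (galGL σ k)⁻¹)) {Q₀ : QuadraticForm F₀ (ι → F₀)}
    (hd : ∀ v : ι → F₀, Q (k.1 *ᵥ (e ∘ v)) = (d : F) * e (Q₀ v)) {c : F₀ˣ}
    (L : (ι → F₀) ≃ₗ[F₀] (ι → F₀)) (hL : ∀ v, Q₀ (L v) = (c : F₀) * Qm v) :
    ∃ k' ∈ Cfsg.Geo.quadSimilarityGroup (F := F) ⇑Q, g = scal a * (k' * (galGL σ k')⁻¹) := by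
  classical
  let M : GL ι F₀ :=
    ⟨LinearMap.toMatrix' L.toLinearMap, LinearMap.toMatrix' L.symm.toLinearMap,
      by rw [← LinearMap.toMatrix'_comp]; simp, by rw [← LinearMap.toMatrix'_comp]; simp⟩
  have hM : ∀ v, M.1 *ᵥ v = L v := fun v => LinearMap.toMatrix'_mulVec _ v
  refine ⟨k * mapGL e M, ⟨d * Units.map e.toMonoidHom c, fun v => ?_⟩, ?_⟩
  · have key : Q.comp (Matrix.mulVecLin (k * mapGL e M).1)
        = ((d * Units.map e.toMonoidHom c : Fˣ) : F) • Q := by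
      refine quadForm_ext_of_subfield e _ _ fun w => ?_
      show Q ((k * mapGL e M).1 *ᵥ (e ∘ w)) = _ * Q (e ∘ w)
      rw [Units.val_mul, ← Matrix.mulVec_mulVec, mapGL_coe, map_mulVec_embed, hd, hM, hL, map_mul,
        hQm, Units.val_mul, mul_assoc]
      rfl
    exact QuadraticMap.congr_fun key v
  · rw [map_mul, galGL_mapGL e hfix, mul_inv_rev, mul_assoc k, mul_inv_cancel_left, hgk]

/-- A similarity fixed up to scalars is a scalar multiple of a similarity over the fixed field. -/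
theorem exists_sim_of_twist [Nonempty ι] (Qm : QuadraticForm F₀ (ι → F₀))
    (hQm : ∀ v, Q (e ∘ v) = e (Qm v)) {v₀ : ι → F₀} (hv₀ : Qm v₀ = 1) (hσ : orderOf σ = r)
    (hr : 0 < r) (hrange : ∀ x, σ x = x → x ∈ Set.range e) {g : GL ι F}
    (hg : g ∈ Cfsg.Geo.quadSimilarityGroup (F := F) ⇑Q) {a : Fˣ} (ha : galGL σ g = scal a * g) :
    ∃ g₀ ∈ Cfsg.Geo.quadSimilarityGroup (F := F₀) ⇑Qm, ∃ b : Fˣ, g = scal b * mapGL e g₀ := by
  classical
  obtain ⟨g₀, b, hgb⟩ := exists_mapGL_of_twist hσ hr e hrange ha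
  refine ⟨g₀, ?_, b, hgb⟩
  obtain ⟨c, hc⟩ := hg
  have hval : ∀ v, (b : F) * b * e (Qm (g₀.1 *ᵥ v)) = (c : F) * e (Qm v) := by
    intro v
    rw [← hQm, ← hQm, ← hc, hgb, Units.val_mul, scal_coe, smul_mul_assoc, one_mul,
      Matrix.smul_mulVec, QuadraticMap.map_smul, smul_eq_mul, mapGL_coe, map_mulVec_embed]
  set c₀ := Qm (g₀.1 *ᵥ v₀) with hc₀
  have h1 := hval v₀
  rw [hv₀, map_one, mul_one, ← hc₀] at h1
  have hc0 : c₀ ≠ 0 := fun h => c.ne_zero (by rw [← h1, h, map_zero, mul_zero])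
  refine ⟨Units.mk0 c₀ hc0, fun v => e.injective ?_⟩
  have h2 := hval v
  rw [← h1] at h2
  rw [map_mul, Units.val_mk0]
  exact mul_left_cancel₀ (mul_ne_zero b.ne_zero b.ne_zero) (by linear_combination h2)

theorem mapGL_sim (Qm : QuadraticForm F₀ (ι → F₀)) (hQm : ∀ v, Q (e ∘ v) = e (Qm v))
    {g : GL ι F₀} (hg : g ∈ Cfsg.Geo.quadSimilarityGroup (F := F₀) ⇑Qm) :
    mapGL e g ∈ Cfsg.Geo.quadSimilarityGroup (F := F) ⇑Q := by
  obtain ⟨c, hc⟩ := hg
  refine ⟨Units.map e.toMonoidHom c, fun v => ?_⟩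
  have key : Q.comp (Matrix.mulVecLin (mapGL e g).1)
      = ((Units.map e.toMonoidHom c : Fˣ) : F) • Q := by
    refine quadForm_ext_of_subfield e _ _ fun w => ?_
    show Q ((mapGL e g).1 *ᵥ (e ∘ w)) = _ * Q (e ∘ w)
    rw [mapGL_coe, map_mulVec_embed, hQm, hQm, hc, map_mul]
    rfl
  exact QuadraticMap.congr_fun key v

end Descent

end Cfsg.Agent.FieldAut
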