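import Cfsg.Agent.Lib.FieldAut.OrthBasic
import Cfsg.Agent.Lib.Orth.Models
import Cfsg.Agent.Lib.Forms.Bases

/-!
# Field automorphisms of `Ω_{2m+1}(q)`

`omega_odd_coset_conj` and `omega_odd_centralizer_and_split`, each given `OmegaOddAutHyp`
(`gammaPOmega = ⊤`).
-/

set_option autoImplicit false

namespace Cfsg.Agent.FieldAut

open scoped MatrixGroups Matrix
open Cfsg.Agent.Orth (IsoGrp ap refl quadOdd spin spinHom dick)
open QuadraticMap (polar)

variable {m : ℕ} {F : Type*} [Field F]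

local notation "Idx" => Unit ⊕ (Fin m ⊕ Fin m)
local notation "QO" => quadOdd m F
local notation "SO'" => Cfsg.Geo.quadSimilarityGroup (F := F) (Cfsg.quadFormOdd m F)

theorem coeffFixed_odd (σ : F ≃+* F) : CoeffFixed (Cfsg.quadFormOdd m F) σ := fun v => by
  simp [Cfsg.quadFormOdd]

theorem quadOdd_embed {F₀ : Type*} [Field F₀] (e : F₀ →+* F) (v : Idx → F₀) :
    QO (e ∘ v) = e (quadOdd m F₀ v) := by
  simp [Orth.coe_quadOdd, Cfsg.quadFormOdd]

/-- The unit vector of norm one. -/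
noncomputable def v₁ (m : ℕ) (F : Type*) [Field F] : Unit ⊕ (Fin m ⊕ Fin m) → F := Pi.single (.inl ()) 1

theorem quadOdd_v₁ : QO (v₁ m F) = 1 := by
  simp [v₁, Orth.coe_quadOdd, Cfsg.quadFormOdd]

/-- The hypothesis on the automorphism group: every automorphism is induced by a semisimilarity. -/
def OmegaOddAutHyp (m : ℕ) (F : Type*) [Field F] : Prop :=
  Cfsg.gammaPOmega F (Cfsg.quadFormOdd m F) = ⊤

theorem inndiagOdd_eq : Cfsg.inndiagPOmegaOdd m F
    = (conjAut omMat_injective SO' fun _ => keep_conj_sim).range :=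
  closure_isInd_eq_range _ _ _ _ isInd_simInduced

theorem inndiag_normal_odd (hA : OmegaOddAutHyp m F)
    (α : MulAut (Cfsg.POmega F (Cfsg.quadFormOdd m F))) :
    α ∈ Subgroup.normalizer (Cfsg.inndiagPOmegaOdd m F :
      Set (MulAut (Cfsg.POmega F (Cfsg.quadFormOdd m F)))) := by
  rw [inndiagOdd_eq]
  have hle : Cfsg.gammaPOmega F (Cfsg.quadFormOdd m F) ≤ Subgroup.normalizer
      ((conjAut omMat_injective SO' fun _ => keep_conj_sim).range :
        Set (MulAut (Cfsg.POmega F (Cfsg.quadFormOdd m F)))) := by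
    refine gamma_le_normalizer _ _ _ _ fun β ⟨g, σ, hg, hβ⟩ => ?_
    have hg' := sim_of_semisimilarity (coeffFixed_odd σ) hg
    refine ⟨⟨MulAut.conj g * galGL σ,
      mul_mem (keep_conj_sim hg') (keep_gal_om (coeffFixed_odd σ))⟩, fun x => ?_,
      (isInd_semilinear_om g σ β).1 hβ⟩
    show g * galGL σ x * g⁻¹ ∈ SO' ↔ _
    rw [Subgroup.mul_mem_cancel_right _ (inv_mem hg'), Subgroup.mul_mem_cancel_left _ hg']
    refine ⟨fun h => ?_, galGL_sim (coeffFixed_odd σ)⟩
    have := galGL_sim (coeffFixed_odd σ.symm) h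
    rwa [galGL_symm_apply] at this
  exact hle (hA ▸ Subgroup.mem_top α)

variable [Fintype F]

theorem two_ne_zero_of_odd (hodd : Odd (Fintype.card F)) : (2 : F) ≠ 0 := fun h => by
  have h2 : ringChar F = 2 :=
    CharP.ringChar_of_prime_eq_zero Nat.prime_two (by exact_mod_cast h)
  have := FiniteField.even_card_of_char_two h2
  rw [Nat.odd_iff] at hodd
  omega

theorem omRigid_odd (hodd : Odd (Fintype.card F)) (hm : 2 ≤ m) :
    Rigid (omMat (Cfsg.quadFormOdd m F)) :=
  omRigid (Q := QO) (Orth.quadOdd_nondeg m (two_ne_zero_of_odd hodd)) (by simp; omega)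

theorem gal_faithful_odd (hodd : Odd (Fintype.card F)) (hm : 2 ≤ m) {σ : F ≃+* F}
    (h : ∀ a, IsNilpotent ((omMat (Cfsg.quadFormOdd m F) a : Matrix Idx Idx F) - 1) →
      galGL σ (omMat (Cfsg.quadFormOdd m F) a) = omMat (Cfsg.quadFormOdd m F) a) : σ = 1 := by
  refine RingEquiv.ext fun c => ?_
  let i : Fin m := ⟨0, by omega⟩
  let j : Fin m := ⟨1, by omega⟩
  let u : Idx → F := Pi.single (.inr (.inl i)) 1
  let w : Idx → F := c • Pi.single (.inr (.inl j)) 1
  have hij : i ≠ j := by simp [i, j, Fin.ext_iff]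
  have hu : QO u = 0 := by simp [u, Orth.coe_quadOdd, Cfsg.quadFormOdd, Pi.single_apply]
  have huw : polar ⇑QO u w = 0 := by
    rw [Orth.coe_quadOdd, Orth.polar_quadOdd]; simp [u, w, Pi.single_apply]
  have hmem : Orth.eich QO u w ∈ Cfsg.Omega F ⇑QO :=
    Orth.eichGen_le_omega (Orth.quadOdd_nondeg m (two_ne_zero_of_odd hodd)) (by simp; omega)
      (.inr (by simp; omega)) (Orth.eich_mem_eichGen u w)
  have h1 := congrArg (fun g : GL Idx F => (g : Matrix Idx Idx F) (.inr (.inl j)) (.inr (.inr i)))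
    (h ⟨_, hmem⟩ (eich_unipotent hu huw))
  have hentry : ((Orth.eich QO u w : GL Idx F) : Matrix Idx Idx F) (.inr (.inl j)) (.inr (.inr i))
      = c := by
    have h2 := congrFun (Orth.eich_ap hu huw (Pi.single (.inr (.inr i)) 1)) (.inr (.inl j))
    rw [Orth.ap_apply, Matrix.mulVec_single_one] at h2
    refine h2.trans ?_
    have hp : polar ⇑QO u (Pi.single (.inr (.inr i)) 1) = 1 := by
      rw [Orth.coe_quadOdd, Orth.polar_quadOdd]; simp [u, Pi.single_apply]
    simp [hp, u, w, hij.symm, Pi.single_apply]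
  rw [galGL_apply] at h1
  change σ (((Orth.eich QO u w : GL Idx F) : Matrix Idx Idx F) _ _) = _ at h1
  rw [hentry] at h1
  exact h1.trans hentry

theorem omega_odd_reduce (hodd : Odd (Fintype.card F)) (hm : 2 ≤ m) (hA : OmegaOddAutHyp m F)
    {x : MulAut (Cfsg.POmega F (Cfsg.quadFormOdd m F))}
    (hx : Cfsg.IsFieldAutClassPOmega (Cfsg.quadFormOdd m F) x) {r : ℕ} (hr : r.Prime)
    (hxr : orderOf x = r) :
    ∃ (σ : F ≃+* F) (D : Setup (omMat (Cfsg.quadFormOdd m F)) SO' σ r)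
      (α : MulAut (Cfsg.POmega F (Cfsg.quadFormOdd m F))),
      α ∈ Subgroup.normalizer (D.G : Set (MulAut (Cfsg.POmega F (Cfsg.quadFormOdd m F)))) ∧
      α * x * α⁻¹ = D.phi ∧ D.G = Cfsg.inndiagPOmegaOdd m F := by
  obtain ⟨α, φ, σ, hσ1, hφ, hαx⟩ := hx
  have hk := keep_gal_om (coeffFixed_odd (m := m) σ)
  have hφ' := (isInd_iff omMat_injective hk).1 ((isInd_fieldAut_om σ _).1 hφ)
  have hord : orderOf σ = r := by
    refine @orderOf_eq_prime _ _ σ r ⟨hr⟩ ?_ hσ1
    refine galAut_eq_one (omRigid_odd hodd hm) (keep_gal_om (coeffFixed_odd _))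
      (gal_faithful_odd hodd hm) ?_
    have h1 : (indAut (omMat_injective (Qf := Cfsg.quadFormOdd m F)) ⟨galGL σ, hk⟩) ^ r = 1 := by
      rw [← hφ', ← hαx, ← MulAut.conj_apply, ← map_pow, ← hxr, pow_orderOf_eq_one, map_one]
    rw [← map_pow] at h1
    convert h1 using 2
    exact Subtype.ext (map_pow galGL σ r)
  have D : Setup (omMat (Cfsg.quadFormOdd m F)) SO' σ r :=
    ⟨omRigid_odd hodd hm, ⟨.inl ()⟩, fun _ => keep_conj_sim, hk,
      fun _ => galGL_sim (coeffFixed_odd σ), hord, hr.pos⟩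
  have hG : D.G = Cfsg.inndiagPOmegaOdd m F := inndiagOdd_eq.symm
  exact ⟨σ, D, α, hG ▸ inndiag_normal_odd hA α, hαx.trans hφ', hG⟩

theorem omega_odd_desc (hodd : Odd (Fintype.card F)) {F₀ : Type*} [Field F₀] [Fintype F₀]
    {e : F₀ →+* F} {σ : F ≃+* F} {r : ℕ} (hσ : orderOf σ = r) (hr : 0 < r)
    (hfix : ∀ x, σ (e x) = e x) (hrange : ∀ x, σ x = x → x ∈ Set.range e) {g : GL Idx F}
    (hg : g ∈ SO') (hz : ∃ z : Fˣ, twNorm σ r g = scal z) :
    ∃ k ∈ SO', ∃ a : Fˣ, g = scal a * (k * (galGL σ k)⁻¹) := by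
  have : Nonempty Idx := ⟨.inl ()⟩
  obtain ⟨z, hz⟩ := hz
  obtain ⟨a, d, k, Q₀, hgk, hnd, hd⟩ := exists_descended_form (Q := QO) (e := e)
    (Orth.quadOdd_nondeg m (two_ne_zero_of_odd hodd)) (coeffFixed_odd σ) hσ hr hfix hrange hg hz
  obtain ⟨-, c, L, hc, hL⟩ := Forms.classify_odd Q₀ hnd (m := m)
    (by rw [Module.finrank_fintype_fun_eq_card]; simp; omega)
  obtain ⟨k', hk', hg'⟩ := similarity_of_descended (Q := QO) (quadOdd m F₀) (quadOdd_embed e) hfix
    hgk hd (c := Units.mk0 c hc) L (fun v => by rw [hL, Forms.qfOdd_apply]; rfl)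
  exact ⟨k', hk', a, hg'⟩

theorem omega_odd_coset_conj (hodd : Odd (Fintype.card F)) (hm : 2 ≤ m) (hA : OmegaOddAutHyp m F)
    {x δ : MulAut (Cfsg.POmega F (Cfsg.quadFormOdd m F))}
    (hx : Cfsg.IsFieldAutClassPOmega (Cfsg.quadFormOdd m F) x) {r : ℕ} (hr : r.Prime)
    (hxr : orderOf x = r) (hδ : δ ∈ Cfsg.inndiagPOmegaOdd m F) :
    orderOf (δ * x) = r ↔ Cfsg.IsConjUnder (Cfsg.inndiagPOmegaOdd m F) x (δ * x) := by
  obtain ⟨σ, D, α, hα, hαx, hG⟩ := omega_odd_reduce hodd hm hA hx hr hxr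
  have : Fintype (fixF σ) := Fintype.ofFinite _
  rw [← hG] at hδ ⊢
  exact coset_conj_transport hα hαx
    (fun δ hδ h => D.coset_conj (fun g hg => omega_odd_desc hodd (e := (fixF σ).subtype) D.ordσ
      hr.pos (fun x => (mem_fixF σ).1 x.2) (fun x hx => ⟨⟨x, (mem_fixF σ).2 hx⟩, rfl⟩) hg) hδ h)
    hxr hδ

/-! ### The spinor invariant of a similarity -/

variable {hodd : Odd (Fintype.card F)}

theorem quadOdd_good (hodd : Odd (Fintype.card F)) : Orth.Good QO :=
  Orth.Good.of_two_ne_zero (Orth.quadOdd_nondeg m (two_ne_zero_of_odd hodd)) (two_ne_zero_of_odd hodd)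

omit [Fintype F] in
theorem gram_det_ne_zero {ι : Type} [Fintype ι] [DecidableEq ι] {Q : QuadraticForm F (ι → F)}
    (hQ : Q.polarBilin.Nondegenerate) : (Orth.gram ⇑Q).det ≠ 0 := by
  intro h0
  obtain ⟨x, hx0, hx⟩ := Matrix.exists_vecMul_eq_zero_iff.2 h0
  refine hx0 (hQ.1 x fun y => ?_)
  have hcol : ∀ j, Q.polarBilin x (Pi.single j 1) = 0 := by
    intro j
    conv_lhs => rw [pi_eq_sum_univ' x]
    simp only [map_sum, map_smul, LinearMap.sum_apply, LinearMap.smul_apply, smul_eq_mul,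
      QuadraticMap.polarBilin_apply_apply]
    exact congrFun hx j
  rw [pi_eq_sum_univ' y, map_sum]
  exact Finset.sum_eq_zero fun j _ => by rw [map_smul, hcol, smul_zero]

omit [Fintype F] in
theorem det_sq_of_similarity {ι : Type} [Fintype ι] [DecidableEq ι] {Q : QuadraticForm F (ι → F)}
    (hQ : Q.polarBilin.Nondegenerate) {g : GL ι F} {c : F}
    (hg : ∀ v, Q ((g : Matrix ι ι F) *ᵥ v) = c * Q v) :
    g.1.det ^ 2 = c ^ Fintype.card ι := by
  have hGram : g.1ᵀ * Orth.gram ⇑Q * g.1 = c • Orth.gram ⇑Q := by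
    ext i j
    have h1 : polar ⇑Q (g.1 *ᵥ Pi.single i 1) (g.1 *ᵥ Pi.single j 1)
        = c * polar ⇑Q (Pi.single i 1) (Pi.single j 1) := by
      simp only [polar, ← Matrix.mulVec_add, hg]; ring
    rw [Matrix.smul_apply, smul_eq_mul]
    refine Eq.trans ?_ h1
    rw [Matrix.mulVec_single_one, Matrix.mulVec_single_one,
      ← QuadraticMap.polarBilin_apply_apply, pi_eq_sum_univ' (g.1.col i),
      pi_eq_sum_univ' (g.1.col j)]
    simp only [map_sum, map_smul, LinearMap.sum_apply, LinearMap.smul_apply, smul_eq_mul,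
      QuadraticMap.polarBilin_apply_apply, Matrix.mul_apply, Matrix.transpose_apply,
      Finset.sum_mul, Finset.mul_sum]
    refine Finset.sum_congr rfl fun l _ => Finset.sum_congr rfl fun k _ => ?_
    simp [Orth.gram, Matrix.col_apply]; ring
  have h2 := congrArg Matrix.det hGram
  rw [Matrix.det_mul, Matrix.det_mul, Matrix.det_transpose, Matrix.det_smul] at h2
  apply mul_right_cancel₀ (gram_det_ne_zero hQ)
  linear_combination h2

/-- The multiplier of an odd-dimensional similarity. -/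
noncomputable def simMult : SO' →* Fˣ where
  toFun g := Units.mk0 (QO (g.1.1 *ᵥ v₁ m F)) (by
    obtain ⟨c, hc⟩ := g.2
    show Cfsg.quadFormOdd m F _ ≠ 0
    rw [hc]
    exact mul_ne_zero c.ne_zero (by rw [← Orth.coe_quadOdd, quadOdd_v₁]; exact one_ne_zero))
  map_one' := Units.ext (by simp [quadOdd_v₁])
  map_mul' g h := by
    refine Units.ext ?_
    obtain ⟨c, hc⟩ := g.2
    show QO ((g.1 * h.1).1 *ᵥ v₁ m F) = QO (g.1.1 *ᵥ v₁ m F) * QO (h.1.1 *ᵥ v₁ m F)
    have hc' : ∀ v, QO (g.1.1 *ᵥ v) = (c : F) * QO v := hc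
    rw [Units.val_mul, ← Matrix.mulVec_mulVec, hc', hc' (v₁ m F), quadOdd_v₁, mul_one]

theorem simMult_spec (g : SO') (v : Idx → F) :
    QO (g.1.1 *ᵥ v) = (simMult g : F) * QO v := by
  obtain ⟨c, hc⟩ := g.2
  have hc' : ∀ v, QO (g.1.1 *ᵥ v) = (c : F) * QO v := hc
  show _ = QO (g.1.1 *ᵥ v₁ m F) * QO v
  rw [hc', hc' (v₁ m F), quadOdd_v₁, mul_one]

/-- The scalar `a` with `a⁻¹ g` special orthogonal. -/
noncomputable def scalPart : SO' →* Fˣ :=
  Matrix.GeneralLinearGroup.det.comp (SO').subtype / simMult ^ m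

theorem scalPart_sq (hodd : Odd (Fintype.card F)) (g : SO') :
    scalPart g * scalPart g = simMult g := by
  refine Units.ext ?_
  have h := det_sq_of_similarity (Orth.quadOdd_nondeg m (two_ne_zero_of_odd hodd)) (g := g.1)
    (c := (simMult g : F)) (simMult_spec g)
  simp only [Fintype.card_sum, Fintype.card_unit, Fintype.card_fin] at h
  show ((Matrix.GeneralLinearGroup.det g.1 / simMult g ^ m *
    (Matrix.GeneralLinearGroup.det g.1 / simMult g ^ m) : Fˣ) : F) = _
  push_cast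
  rw [div_mul_div_comm, div_eq_iff (mul_ne_zero (pow_ne_zero _ (Units.ne_zero _))
    (pow_ne_zero _ (Units.ne_zero _))), Matrix.GeneralLinearGroup.val_det_apply, ← pow_two, h]
  ring

/-- The special orthogonal part of a similarity. -/
noncomputable def soPart (hodd : Odd (Fintype.card F)) : SO' →* IsoGrp QO where
  toFun g := ⟨scal (scalPart g)⁻¹ * g.1, fun v _ => by
    show QO ((scal (scalPart g)⁻¹ * g.1).1 *ᵥ v) = QO v
    rw [Units.val_mul, scal_coe, smul_mul_assoc, one_mul, Matrix.smul_mulVec,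
      QuadraticMap.map_smul, simMult_spec, smul_eq_mul, ← mul_assoc, ← Units.val_mul,
      ← Units.val_mul, ← scalPart_sq hodd g]
    simp [mul_assoc]⟩
  map_one' := Subtype.ext (by simp)
  map_mul' g h := Subtype.ext (by
    show scal (scalPart (g * h))⁻¹ * (g.1 * h.1)
      = scal (scalPart g)⁻¹ * g.1 * (scal (scalPart h)⁻¹ * h.1)
    rw [map_mul, mul_inv, map_mul, mul_assoc, mul_assoc,
      ← mul_assoc (scal (scalPart h)⁻¹) g.1, scal_comm (scalPart h)⁻¹ g.1, mul_assoc])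

theorem soPart_coe (g : SO') :
    g.1 = scal (scalPart g) * (soPart hodd g : GL Idx F) := by
  show g.1 = scal (scalPart g) * (scal (scalPart g)⁻¹ * g.1)
  rw [← mul_assoc, ← map_mul, mul_inv_cancel, map_one, one_mul]

theorem det_soPart (g : SO') : ((soPart hodd g : GL Idx F) : Matrix Idx Idx F).det = 1 := by
  show (scal (scalPart g)⁻¹ * g.1).1.det = 1
  have h1 : ((scalPart g : Fˣ) : F) * (simMult g : F) ^ m = g.1.1.det := by
    show ((Matrix.GeneralLinearGroup.det g.1 / simMult g ^ m : Fˣ) : F) * _ = _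
    push_cast
    rw [div_mul_cancel₀ _ (pow_ne_zero _ (Units.ne_zero _))]
    rfl
  rw [Units.val_mul, scal_coe, smul_mul_assoc, one_mul, Matrix.det_smul, ← h1,
    ← scalPart_sq hodd g]
  simp only [Fintype.card_sum, Fintype.card_unit, Fintype.card_fin]
  have ha : ((scalPart g : Fˣ) : F) ≠ 0 := Units.ne_zero _
  push_cast
  rw [inv_pow]
  field_simp
  ring

theorem scalPart_eq (hodd : Odd (Fintype.card F)) (g : SO') {a : Fˣ} (h : IsoGrp QO)
    (hdet : ((h : GL Idx F) : Matrix Idx Idx F).det = 1) (e : g.1 = scal a * (h : GL Idx F)) :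
    scalPart g = a ∧ soPart hodd g = h := by
  have hmult : simMult g = a * a := by
    refine Units.ext ?_
    show QO (g.1.1 *ᵥ v₁ m F) = _
    rw [e, Units.val_mul, scal_coe, smul_mul_assoc, one_mul, Matrix.smul_mulVec,
      QuadraticMap.map_smul, show QO ((h : GL Idx F).1 *ᵥ v₁ m F) = 1 from
        (h.2 (v₁ m F) (v₁ m F)).trans quadOdd_v₁]
    simp
  have ha : scalPart g = a := by
    refine Units.ext ?_
    show ((Matrix.GeneralLinearGroup.det g.1 / simMult g ^ m : Fˣ) : F) = a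
    rw [hmult, e]
    push_cast
    rw [Matrix.GeneralLinearGroup.val_det_apply, Units.val_mul, scal_coe, smul_mul_assoc, one_mul,
      Matrix.det_smul, hdet]
    simp only [Fintype.card_sum, Fintype.card_unit, Fintype.card_fin]
    have : (a : F) ≠ 0 := Units.ne_zero _
    field_simp
    ring
  refine ⟨ha, Subtype.ext ?_⟩
  show scal (scalPart g)⁻¹ * g.1 = _
  rw [ha, e, ← mul_assoc, ← map_mul, inv_mul_cancel, map_one, one_mul]

/-- The spinor invariant. -/
noncomputable def spinInv (hodd : Odd (Fintype.card F)) : SO' →* ℤˣ :=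
  ((spinHom (quadOdd_good hodd)).toHomUnits).comp (soPart hodd)

theorem spinInv_eq_one_iff (g : SO') : spinInv hodd g = 1 ↔ spin (soPart hodd g) = 1 := by
  rw [Units.ext_iff]; rfl

theorem spinInv_ker (hrig : Rigid (omMat (Cfsg.quadFormOdd m F)))
    (hS : ∀ g ∈ SO', MulAut.conj g ∈ keep (omMat (Cfsg.quadFormOdd m F))) (g : SO') :
    spinInv hodd g = 1 ↔
      conjAut hrig.inj SO' hS g ∈ Cfsg.Inn (Cfsg.POmega F (Cfsg.quadFormOdd m F)) := by
  have : Nonempty Idx := ⟨.inl ()⟩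
  rw [conjAut_mem_inn_iff hrig _ _ omMat_mem_sim, spinInv_eq_one_iff]
  have h2 := two_ne_zero_of_odd hodd
  constructor
  · intro hs
    refine ⟨scalPart g, ⟨soPart hodd g, ?_⟩, soPart_coe (hodd := hodd) g⟩
    exact (Orth.mem_omega_iff (quadOdd_good hodd) _).2 ⟨(Orth.mem_special_iff_dick
      (quadOdd_good hodd) h2 _).1 ((Orth.mem_special_iff _).2 (det_soPart g)), hs⟩
  · rintro ⟨a, ⟨h, hh⟩, e⟩
    obtain ⟨hd, hs⟩ := (Orth.mem_omega_iff (quadOdd_good hodd) h).1 hh
    have hdet := (Orth.mem_special_iff (Q := QO) h).1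
      ((Orth.mem_special_iff_dick (quadOdd_good hodd) h2 h).2 hd)
    rw [(scalPart_eq hodd g (h : IsoGrp QO) hdet e).2]
    exact hs

omit [Fintype F] in
/-- A projective quotient is the range of the conjugation action. -/
theorem projQuot_equiv_range {ι : Type} [Fintype ι] [DecidableEq ι] [Nonempty ι] {H : Type*}
    [Group H] {mat : H →* GL ι F} (hr : Rigid mat) (S : Subgroup (GL ι F))
    (hS : ∀ g ∈ S, MulAut.conj g ∈ keep mat) :
    Nonempty (Cfsg.projQuot S ≃* (conjAut hr.inj S hS).range) := by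
  have hker : (conjAut hr.inj S hS).ker = (Cfsg.Geo.scalars ι F).subgroupOf S := by
    ext g
    rw [MonoidHom.mem_ker, conjAut_apply, conjAut_eq_one_iff hr]
    rfl
  exact ⟨(QuotientGroup.quotientMulEquivOfEq hker.symm).trans
    (QuotientGroup.quotientKerEquivRange _)⟩

/-! ### Spinor characters over the fixed field -/

section Sub

variable {F₀ : Type*} [Field F₀] (e : F₀ →+* F)

/-- Isometries over a subfield as isometries. -/
noncomputable def isoEmb : IsoGrp (quadOdd m F₀) →* IsoGrp QO :=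
  ((mapGL e).comp (Cfsg.isometryGroup F₀ ⇑(quadOdd m F₀)).subtype).codRestrict _ fun g => by
    refine mem_iso_iff.2 fun v => ?_
    have key : (QO).comp (Matrix.mulVecLin (mapGL e g.1).1) = QO := by
      refine quadForm_ext_of_subfield e _ _ fun w => ?_
      show QO ((mapGL e g.1).1 *ᵥ (e ∘ w)) = QO (e ∘ w)
      rw [mapGL_coe, map_mulVec_embed, quadOdd_embed, quadOdd_embed]
      exact congrArg e (g.2 w w)
    exact QuadraticMap.congr_fun key v

theorem isoEmb_refl (v : Idx → F₀) :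
    isoEmb e (refl (quadOdd m F₀) v) = refl QO (e ∘ v) := by
  refine Subtype.ext (Units.ext (Matrix.ext_of_mulVec_single fun i => ?_))
  have hs : e ∘ (Pi.single i (1 : F₀)) = (Pi.single i (1 : F) : Idx → F) := by
    funext j; simp [Pi.single_apply, apply_ite e]
  have hpol : polar ⇑QO (e ∘ v) (e ∘ Pi.single i 1)
      = e (polar ⇑(quadOdd m F₀) v (Pi.single i 1)) := by
    simp only [polar, map_sub, ← quadOdd_embed]
    congr 2
    congr 1
    funext j; simp
  show (mapGL e (refl (quadOdd m F₀) v).1).1 *ᵥ Pi.single i 1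
    = ap (refl QO (e ∘ v)) (Pi.single i 1)
  rw [← hs, mapGL_coe, map_mulVec_embed, ← Orth.ap_apply, Orth.refl_ap, Orth.refl_ap, hpol,
    quadOdd_embed]
  funext j; simp

variable [Fintype F₀]

open Classical in
theorem spin_isoEmb (hodd : Odd (Fintype.card F)) (hodd₀ : Odd (Fintype.card F₀))
    (φ : ℤ →* ℤ) (hφ : ∀ x : F₀, x ≠ 0 →
      quadraticChar F (e x) = φ (quadraticChar F₀ x)) (g : IsoGrp (quadOdd m F₀)) :
    spin (isoEmb e g) = φ (spin g) := by
  induction g using Orth.reflGen_induction (quadOdd_good hodd₀) with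
  | one => simp [Orth.spin_one]
  | mul v g hv ih =>
    have hv' : QO (e ∘ v) ≠ 0 := by rw [quadOdd_embed]; exact fun h => hv (e.injective (by simpa using h))
    rw [map_mul, isoEmb_refl, Orth.spin_mul (quadOdd_good hodd),
      Orth.spin_mul (quadOdd_good hodd₀), map_mul, ih,
      Orth.spin_refl (quadOdd_good hodd).nd hv', Orth.spin_refl (quadOdd_good hodd₀).nd hv,
      quadOdd_embed, hφ _ hv]

theorem quadraticChar_embed_odd [DecidableEq F] [DecidableEq F₀] {σ : F ≃+* F} {r : ℕ}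
    (hσ : orderOf σ = r) (hr : Odd r) (hfix : ∀ x, σ (e x) = e x)
    (hrange : ∀ x, σ x = x → x ∈ Set.range e) (x : F₀) (hx : x ≠ 0) :
    quadraticChar F (e x) = quadraticChar F₀ x := by
  have hex : e x ≠ 0 := fun h => hx (e.injective (by simpa using h))
  have hiff : IsSquare (e x) ↔ IsSquare x := by
    refine ⟨fun ⟨y, hy⟩ => ?_, fun h => h.map e⟩
    have h1 : σ y * σ y = y * y := by rw [← map_mul, ← hy, hfix]
    rcases mul_self_eq_mul_self_iff.1 h1 with h | h
    · obtain ⟨y₀, rfl⟩ := hrange y h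
      exact ⟨y₀, e.injective (by rw [map_mul, hy])⟩
    · have hpow : ∀ n, (σ ^ n) y = (-1) ^ n * y := by
        intro n
        induction n with
        | zero => simp
        | succ n ih => rw [pow_succ', RingAut.mul_apply, ih, map_mul, map_pow, map_neg, map_one, h]; ring
      have h2 := hpow r
      rw [← hσ, pow_orderOf_eq_one, RingAut.one_apply, hσ, hr.neg_one_pow] at h2
      have : y = -y := by linear_combination h2
      obtain ⟨y₀, rfl⟩ := hrange y (h.trans this.symm)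
      exact ⟨y₀, e.injective (by rw [map_mul, hy])⟩
  rcases quadraticChar_dichotomy hx with h | h
  · rw [h, (quadraticChar_one_iff_isSquare hex).2 (hiff.2 ((quadraticChar_one_iff_isSquare hx).1 h))]
  · rw [h, quadraticChar_neg_one_iff_not_isSquare.2 fun hs =>
      quadraticChar_neg_one_iff_not_isSquare.1 h (hiff.1 hs)]

theorem quadraticChar_embed_two [DecidableEq F] (hodd₀ : Odd (Fintype.card F₀))
    (hcard : Fintype.card F = Fintype.card F₀ ^ 2) (x : F₀) (hx : x ≠ 0) :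
    quadraticChar F (e x) = 1 := by
  have hex : e x ≠ 0 := fun h => hx (e.injective (by simpa using h))
  obtain ⟨j, hj⟩ := hodd₀
  have hF2 : ringChar F ≠ 2 := fun h => by
    have := FiniteField.even_card_of_char_two h
    rw [hcard, hj, Nat.pow_mod] at this
    simp [Nat.add_mod] at this
  refine (quadraticChar_one_iff_isSquare hex).2 ((FiniteField.isSquare_iff hF2 hex).2 ?_)
  have h1 : Fintype.card F / 2 = (Fintype.card F₀ - 1) * (j + 1) := by
    have h2 : (2 * j + 1) ^ 2 = 2 * (2 * j * (j + 1)) + 1 := by ring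
    rw [hcard, hj, show 2 * j + 1 - 1 = 2 * j from rfl, h2]
    omega
  rw [h1, pow_mul, ← map_pow, FiniteField.pow_card_sub_one_eq_one x hx, map_one, one_pow]

end Sub

theorem omega_odd_centralizer_and_split {p f : ℕ} (hp : p.Prime) (hF : Fintype.card F = p ^ f)
    (hodd : Odd (Fintype.card F)) (hm : 2 ≤ m) (hA : OmegaOddAutHyp m F)
    {x : MulAut (Cfsg.POmega F (Cfsg.quadFormOdd m F))}
    (hx : Cfsg.IsFieldAutClassPOmega (Cfsg.quadFormOdd m F) x) {r : ℕ} (hr : r.Prime)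
    (hxr : orderOf x = r) (F₀ : Type*) [Field F₀] [Fintype F₀]
    (hF₀ : Fintype.card F₀ = p ^ (f / r)) :
    r ∣ f ∧
      Nonempty (↥(Cfsg.inndiagPOmegaOdd m F ⊓ Subgroup.centralizer {x}) ≃*
        ↥(Cfsg.inndiagPOmegaOdd m F₀)) ∧
      (Odd r → Cfsg.splitClassCount (Cfsg.inndiagPOmegaOdd m F)
        (Cfsg.Inn (Cfsg.POmega F (Cfsg.quadFormOdd m F))) x = 1) ∧
      (r = 2 → Cfsg.splitClassCount (Cfsg.inndiagPOmegaOdd m F)
        (Cfsg.Inn (Cfsg.POmega F (Cfsg.quadFormOdd m F))) x = 2) := by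
  classical
  have : Nonempty Idx := ⟨.inl ()⟩
  obtain ⟨σ, D, α, hα, hαx, hG⟩ := omega_odd_reduce hodd hm hA hx hr hxr
  obtain ⟨hrf, hQ, -⟩ := order_data hp hF D.ordσ D.rpos
  obtain ⟨e, he⟩ := exists_embedding_fixed σ D.ordσ D.rpos hQ F₀ hF₀
  have hfix : ∀ x, σ (e x) = e x := fun x => (he _).1 ⟨x, rfl⟩
  have hrange : ∀ x, σ x = x → x ∈ Set.range e := fun x h => (he x).2 h
  have hpow : Fintype.card F = Fintype.card F₀ ^ r := by
    rw [hF₀, hQ, Nat.card_eq_fintype_card]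
  have hodd₀ : Odd (Fintype.card F₀) := by
    rw [hpow] at hodd
    rcases Nat.even_or_odd (Fintype.card F₀) with h | h
    · exact absurd (h.pow_of_ne_zero hr.ne_zero) (Nat.not_even_iff_odd.2 hodd)
    · exact h
  have hmap : ∀ g ∈ Cfsg.Geo.quadSimilarityGroup (F := F₀) (Cfsg.quadFormOdd m F₀),
      mapGL e g ∈ SO' := fun g hg => mapGL_sim (Q := QO) (quadOdd m F₀) (quadOdd_embed e) hg
  have hsurj : ∀ g ∈ SO', (∃ a : Fˣ, galGL σ g = scal a * g) →
      ∃ g₀ ∈ Cfsg.Geo.quadSimilarityGroup (F := F₀) (Cfsg.quadFormOdd m F₀),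
        ∃ a : Fˣ, g = scal a * mapGL e g₀ :=
    fun g hg ⟨a, ha⟩ => exists_sim_of_twist (Q := QO) (quadOdd m F₀) (quadOdd_embed e)
      (v₀ := v₁ m F₀) quadOdd_v₁ D.ordσ D.rpos hrange hg ha
  obtain ⟨E⟩ := D.centralizerEquiv e hfix _ hmap hsurj
  obtain ⟨E₀⟩ := projQuot_equiv_range (omRigid_odd hodd₀ hm)
    (Cfsg.Geo.quadSimilarityGroup (F := F₀) (Cfsg.quadFormOdd m F₀)) fun _ => keep_conj_sim
  rw [← inndiagOdd_eq] at E₀
  have hsplit := D.splitClassCount_eq (spinInv hodd) (inn_le_range _ _ _ omMat_mem_sim)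
    (spinInv_ker (hodd := hodd) D.rigid D.keepS)
  have h2 := two_ne_zero_of_odd hodd
  have h20 := two_ne_zero_of_odd hodd₀
  -- special orthogonal elements give all spinor values
  have hrangeTop : ∀ (u : ℤˣ), ∃ g : IsoGrp (quadOdd m F₀),
      ((g : GL Idx F₀) : Matrix Idx Idx F₀).det = 1 ∧ spin g = (u : ℤ) := by
    intro u
    obtain ⟨g, hg⟩ := Orth.signHom_surjective (quadOdd_good hodd₀)
      (show 2 ≤ Fintype.card Idx by simp; omega) h20 (1, u)
    have h1 := congrArg (fun z : ℤˣ × ℤˣ => ((z.1 : ℤ), (z.2 : ℤ))) hg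
    simp only [Orth.signHom, MonoidHom.prod_apply, MonoidHom.coe_toHomUnits,
      Orth.dickHom_apply, Orth.spinHom_apply, Units.val_one, Prod.mk.injEq] at h1
    exact ⟨g, (Orth.mem_special_iff g).1
      ((Orth.mem_special_iff_dick (quadOdd_good hodd₀) h20 g).2 h1.1), h1.2⟩
  have hdetE : ∀ g : IsoGrp (quadOdd m F₀), ((g : GL Idx F₀) : Matrix Idx Idx F₀).det = 1 →
      ((isoEmb e g : GL Idx F) : Matrix Idx Idx F).det = 1 := fun g hg => by
    show (e.mapMatrix g.1.1).det = 1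
    rw [← RingHom.map_det, hg, map_one]
  have hfixE : ∀ g : IsoGrp (quadOdd m F₀), (⟨_, iso_le_sim (isoEmb e g).2⟩ : SO') ∈ D.fixS :=
    fun g => D.mem_fixS.2 ⟨1, by rw [map_one, one_mul]; exact galGL_mapGL e hfix g.1⟩
  have hval : ∀ g : IsoGrp (quadOdd m F₀), ((g : GL Idx F₀) : Matrix Idx Idx F₀).det = 1 →
      ((spinInv hodd ⟨_, iso_le_sim (isoEmb e g).2⟩ : ℤˣ) : ℤ) = spin (isoEmb e g) := fun g hg => by
    show spin (soPart hodd _) = _
    rw [(scalPart_eq hodd ⟨_, iso_le_sim (isoEmb e g).2⟩ (a := 1) (isoEmb e g) (hdetE g hg)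
      (by rw [map_one, one_mul])).2]
  have hfixVal : ∀ g ∈ D.fixS, ∃ g₁ : IsoGrp (quadOdd m F₀),
      ((spinInv hodd g : ℤˣ) : ℤ) = spin (isoEmb e g₁) := by
    intro g hg
    obtain ⟨g₀, hg₀, b, hgb⟩ := hsurj g.1 g.2 (D.mem_fixS.1 hg)
    refine ⟨soPart hodd₀ ⟨g₀, hg₀⟩, ?_⟩
    show spin (soPart hodd g) = _
    rw [(scalPart_eq hodd g
      (a := b * Units.map e.toMonoidHom (scalPart (⟨g₀, hg₀⟩ : Cfsg.Geo.quadSimilarityGroup
        (F := F₀) (Cfsg.quadFormOdd m F₀))))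
      (isoEmb e (soPart hodd₀ ⟨g₀, hg₀⟩)) (hdetE _ (det_soPart _)) ?_).2]
    rw [hgb, map_mul, mul_assoc]
    congr 1
    conv_lhs => rw [show g₀ = scal (scalPart (⟨g₀, hg₀⟩ : Cfsg.Geo.quadSimilarityGroup (F := F₀)
      (Cfsg.quadFormOdd m F₀))) * (soPart hodd₀ ⟨g₀, hg₀⟩ : GL Idx F₀) from soPart_coe (hodd := hodd₀) ⟨g₀, hg₀⟩, map_mul]
    congr 1
    ext i j
    rcases eq_or_ne i j with rfl | hij <;> simp [scal_coe, *]
  rw [← hG]
  refine ⟨hrf, ⟨((centralizerConjEquiv hα hαx).trans E).trans E₀⟩, fun hro => ?_, fun hr2 => ?_⟩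
  · rw [splitClassCount_conj hα hαx, hsplit, Subgroup.relIndex_eq_one]
    rintro _ ⟨g, rfl⟩
    obtain ⟨g₁, hg₁, hs⟩ := hrangeTop (spinInv hodd g)
    refine ⟨_, hfixE g₁, Units.ext ?_⟩
    rw [hval g₁ hg₁, spin_isoEmb e hodd hodd₀ (MonoidHom.id ℤ)
      (fun x hx => quadraticChar_embed_odd e D.ordσ hro hfix hrange x hx) g₁]
    exact hs
  · have himg : D.fixS.map (spinInv hodd) = ⊥ := by
      refine (Subgroup.eq_bot_iff_forall _).2 ?_
      rintro _ ⟨g, hg, rfl⟩
      obtain ⟨g₁, hg₁⟩ := hfixVal g hg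
      refine Units.ext ?_
      rw [hg₁, spin_isoEmb e hodd hodd₀ 1 (fun x hx => by
        rw [quadraticChar_embed_two e hodd₀ (by rw [hpow, hr2]) x hx]; rfl) g₁]
      rfl
    have htop : (spinInv (m := m) hodd).range = ⊤ := by
      refine MonoidHom.range_eq_top.2 fun u => ?_
      obtain ⟨g, hg⟩ := Orth.signHom_surjective (quadOdd_good hodd)
        (show 2 ≤ Fintype.card Idx by simp; omega) h2 (1, u)
      have h1 := congrArg (fun z : ℤˣ × ℤˣ => ((z.1 : ℤ), (z.2 : ℤ))) hg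
      simp only [Orth.signHom, MonoidHom.prod_apply, MonoidHom.coe_toHomUnits,
        Orth.dickHom_apply, Orth.spinHom_apply, Units.val_one, Prod.mk.injEq] at h1
      refine ⟨⟨_, iso_le_sim g.2⟩, Units.ext ?_⟩
      show spin (soPart hodd _) = _
      rw [(scalPart_eq hodd ⟨_, iso_le_sim g.2⟩ (a := 1) g ((Orth.mem_special_iff g).1
        ((Orth.mem_special_iff_dick (quadOdd_good hodd) h2 g).2 h1.1))
        (by rw [map_one, one_mul])).2]
      exact h1.2
    rw [splitClassCount_conj hα hαx, hsplit, himg, htop, Subgroup.relIndex_top_right,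
      Subgroup.index_bot, Nat.card_eq_fintype_card]
    rfl

end Cfsg.Agent.FieldAut
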