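import Cfsg.Agent.Lib.FieldAut.Descent

/-!
# Automorphisms of `H / Z(H)` induced by automorphisms of `GL`

For an injective `mat : H →* GL ι F`:
* `keep mat` : the automorphisms of `GL ι F` preserving the image; `indAut : keep mat →* MulAut (H ⧸ Z(H))`.
* `IsInd mat ψ β` : the shape of the Prelude `IsInducedBy…` predicates; `isInd_iff : … ↔ β = indAut ψ`.
* `Rigid mat` : injective and the unipotent elements commute only with scalars;
  `Rigid.conjAut_eq_one_iff`, `Rigid.galAut_eq_one`.
* `conjAut : S →* MulAut (H ⧸ Z(H))` and `closure_isInd_eq_range` (the Prelude `inndiag` subgroups),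
  `range_conjAut_normalized`.
-/

set_option autoImplicit false

namespace Cfsg.Agent.FieldAut

open scoped MatrixGroups Matrix

variable {ι : Type} [Fintype ι] [DecidableEq ι] {F : Type*} [Field F] {H : Type*} [Group H]
  (mat : H →* GL ι F)

/-- Automorphisms of the general linear group preserving the image of `mat`. -/
def keep : Subgroup (MulAut (GL ι F)) where
  carrier := {ψ | ∀ x, ψ x ∈ mat.range ↔ x ∈ mat.range}
  one_mem' := fun _ => Iff.rfl
  mul_mem' := fun {ψ χ} hψ hχ x => (hψ (χ x)).trans (hχ x)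
  inv_mem' := fun {ψ} hψ x => by
    conv_rhs => rw [← ψ.apply_symm_apply x]
    exact (hψ _).symm

theorem mem_keep_of_maps [Finite H] {ψ : MulAut (GL ι F)} (h : ∀ a, ψ (mat a) ∈ mat.range) :
    ψ ∈ keep mat := by
  have hsub : mat.range.map ψ.toMonoidHom ≤ mat.range := by
    rintro _ ⟨_, ⟨a, rfl⟩, rfl⟩; exact h a
  have : Finite mat.range := Finite.of_surjective _ mat.rangeRestrict_surjective
  have heq := Subgroup.eq_of_le_of_card_ge hsub
    (le_of_eq (Nat.card_congr (mat.range.equivMapOfInjective _ ψ.injective).toEquiv))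
  intro x
  constructor
  · intro hx
    rw [← heq] at hx
    obtain ⟨y, hy, hyx⟩ := hx
    exact ψ.injective hyx ▸ hy
  · rintro ⟨a, rfl⟩; exact h a

/-- The restriction of an automorphism to the image. -/
def keepRestrict : keep mat →* MulAut mat.range where
  toFun ψ :=
    { toFun := fun x => ⟨ψ.1 x.1, (ψ.2 x.1).2 x.2⟩
      invFun := fun x => ⟨ψ.1⁻¹ x.1, ((ψ⁻¹).2 x.1).2 x.2⟩
      left_inv := fun x => Subtype.ext (ψ.1.symm_apply_apply x.1)
      right_inv := fun x => Subtype.ext (ψ.1.apply_symm_apply x.1)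
      map_mul' := fun x y => Subtype.ext (map_mul ψ.1 x.1 y.1) }
  map_one' := rfl
  map_mul' _ _ := rfl

/-- The induced automorphism of the centre quotient. -/
def quotAut : MulAut H →* MulAut (H ⧸ Subgroup.center H) where
  toFun e := QuotientGroup.congr _ _ e
    (Subgroup.characteristic_iff_map_eq.1 inferInstance e)
  map_one' := by
    ext x; obtain ⟨h, rfl⟩ := QuotientGroup.mk_surjective x; rfl
  map_mul' a b := by
    ext x; obtain ⟨h, rfl⟩ := QuotientGroup.mk_surjective x; rfl

variable {mat}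

/-- The induced automorphism of `H`. -/
noncomputable def liftAut (hinj : Function.Injective mat) : keep mat →* MulAut H where
  toFun ψ := ((MonoidHom.ofInjective hinj).trans (keepRestrict mat ψ)).trans
    (MonoidHom.ofInjective hinj).symm
  map_one' := by ext h; simp
  map_mul' a b := by ext h; simp [MulAut.mul_apply]

theorem mat_liftAut (hinj : Function.Injective mat) (ψ : keep mat) (h : H) :
    mat (liftAut hinj ψ h) = ψ.1 (mat h) :=
  congrArg Subtype.val ((MonoidHom.ofInjective hinj).apply_symm_apply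
    (keepRestrict mat ψ (MonoidHom.ofInjective hinj h)))

/-- The automorphism of `H ⧸ Z(H)` induced by an automorphism of `GL`. -/
noncomputable def indAut (hinj : Function.Injective mat) :
    keep mat →* MulAut (H ⧸ Subgroup.center H) :=
  quotAut.comp (liftAut hinj)

variable (mat)

/-- The shape of the Prelude predicates "`β` is induced by `ψ`". -/
def IsInd (ψ : GL ι F → GL ι F) (β : H ⧸ Subgroup.center H ≃* H ⧸ Subgroup.center H) : Prop :=
  ∀ h h' : H, mat h' = ψ (mat h) → β (QuotientGroup.mk h) = QuotientGroup.mk h'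

variable {mat}

theorem indAut_mk (hinj : Function.Injective mat) (ψ : keep mat) (h : H) :
    indAut hinj ψ (QuotientGroup.mk h) = QuotientGroup.mk (liftAut hinj ψ h) := rfl

theorem isInd_iff (hinj : Function.Injective mat) {ψ : MulAut (GL ι F)} (hψ : ψ ∈ keep mat)
    {β : H ⧸ Subgroup.center H ≃* H ⧸ Subgroup.center H} :
    IsInd mat ψ β ↔ β = indAut hinj ⟨ψ, hψ⟩ := by
  constructor
  · intro hβ
    refine MulEquiv.ext fun x => ?_
    obtain ⟨h, rfl⟩ := QuotientGroup.mk_surjective x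
    rw [indAut_mk, hβ h (liftAut hinj ⟨ψ, hψ⟩ h) (mat_liftAut hinj ⟨ψ, hψ⟩ h)]
  · rintro rfl h h' hh
    rw [indAut_mk]
    exact congrArg _ (hinj ((mat_liftAut hinj _ h).trans hh.symm))

variable (mat)

/-- `mat` is injective and its unipotent elements commute only with scalars. -/
structure Rigid : Prop where
  inj : Function.Injective mat
  commutant : ∀ g : GL ι F,
    (∀ h, IsNilpotent ((mat h : Matrix ι ι F) - 1) → Commute g (mat h)) →
      g ∈ Cfsg.Geo.scalars ι F

variable {mat}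

theorem eq_one_of_smul_unipotent [Nonempty ι] {R : Matrix ι ι F ≃+* Matrix ι ι F}
    {u : Matrix ι ι F} {c : F} (hu : IsNilpotent (u - 1)) (h : R u = c • u) : c = 1 := by
  have h1 : IsNilpotent (c • u - 1) := by
    rw [← h, ← map_one R, ← map_sub R]
    exact hu.map R
  have h2 : IsNilpotent ((c - 1) • (1 : Matrix ι ι F)) := by
    have h3 : (c - 1) • (1 : Matrix ι ι F) = (c • u - 1) - c • (u - 1) := by
      simp only [sub_smul, one_smul, smul_sub]; abel
    rw [h3]
    refine Commute.isNilpotent_sub ?_ h1 (hu.smul c)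
    exact (((Commute.refl u).smul_left c).sub_left (Commute.one_left u)).sub_right
      (Commute.one_right _) |>.smul_right c
  obtain ⟨n, hn⟩ := h2
  obtain ⟨i⟩ := (inferInstance : Nonempty ι)
  have h4 := congrFun (congrFun hn i) i
  rw [smul_pow, one_pow] at h4
  simp only [Matrix.smul_apply, Matrix.one_apply_eq, smul_eq_mul, mul_one, Matrix.zero_apply] at h4
  exact sub_eq_zero.1 (pow_eq_zero_iff (n := n) (fun h0 => by simp [h0] at h4) |>.1 h4)

theorem center_scalar (hr : Rigid mat) {z : H} (hz : z ∈ Subgroup.center H) :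
    mat z ∈ Cfsg.Geo.scalars ι F :=
  hr.commutant _ fun h _ => by
    rw [Commute, SemiconjBy, ← map_mul, ← map_mul, Subgroup.mem_center_iff.1 hz h]

theorem center_of_scalar (hr : Rigid mat) {z : H} (hz : mat z ∈ Cfsg.Geo.scalars ι F) :
    z ∈ Subgroup.center H := by
  rw [Subgroup.mem_center_iff]
  intro h
  obtain ⟨c, hc⟩ := hz
  apply hr.inj
  rw [map_mul, map_mul, ← hc]
  exact (scal_comm c (mat h)).symm

theorem indAut_eq_one_iff (hr : Rigid mat) {ψ : keep mat} :
    indAut hr.inj ψ = 1 ↔ ∀ h, ∃ c : Fˣ, ψ.1 (mat h) = scal c * mat h := by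
  constructor
  · intro h1 h
    have h2 : (QuotientGroup.mk (liftAut hr.inj ψ h) : H ⧸ Subgroup.center H) = QuotientGroup.mk h := by
      rw [← indAut_mk, h1]; rfl
    rw [QuotientGroup.eq] at h2
    obtain ⟨c, hc⟩ := center_scalar hr (inv_mem h2)
    refine ⟨c, ?_⟩
    rw [← mat_liftAut hr.inj]
    rw [mul_inv_rev, inv_inv, map_mul, map_inv] at hc
    exact (scal_comm_of hc).symm
  · intro hall
    refine MulEquiv.ext fun x => ?_
    obtain ⟨h, rfl⟩ := QuotientGroup.mk_surjective x
    rw [indAut_mk, MulAut.one_apply, QuotientGroup.eq]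
    obtain ⟨c, hc⟩ := hall h
    rw [← mat_liftAut hr.inj] at hc
    refine center_of_scalar hr ?_
    rw [map_mul, map_inv, hc, mul_inv_rev, mul_assoc, ← map_inv]
    refine ⟨c⁻¹, ?_⟩
    show (scal c⁻¹ : GL ι F) = _
    rw [← map_inv scal, scal_comm c⁻¹, map_inv mat, inv_mul_cancel_left]
where
  scal_comm_of {c : Fˣ} {a b : GL ι F} (hc : (scal c : GL ι F) = a⁻¹ * b) : scal c * a = b := by
    rw [scal_comm, hc, mul_inv_cancel_left]

theorem indAut_fixes_unipotent [Nonempty ι] (hr : Rigid mat) {ψ : keep mat}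
    {R : Matrix ι ι F ≃+* Matrix ι ι F}
    (hψ : ∀ x : GL ι F, ((ψ.1 x : GL ι F) : Matrix ι ι F) = R x) (h1 : indAut hr.inj ψ = 1)
    {h : H} (hu : IsNilpotent ((mat h : Matrix ι ι F) - 1)) : ψ.1 (mat h) = mat h := by
  obtain ⟨c, hc⟩ := (indAut_eq_one_iff hr).1 h1 h
  have hv := congrArg Units.val hc
  rw [Units.val_mul, scal_coe, smul_mul_assoc, one_mul, hψ] at hv
  rw [hc, (Units.ext (eq_one_of_smul_unipotent hu hv) : c = 1), map_one, one_mul]

/-- Conjugation by a matrix as a ring automorphism. -/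
def conjRing (g : GL ι F) : Matrix ι ι F ≃+* Matrix ι ι F where
  toFun x := g * x * (g⁻¹ : GL ι F)
  invFun x := (g⁻¹ : GL ι F) * x * g
  left_inv x := by simp [mul_assoc]
  right_inv x := by simp [mul_assoc]
  map_mul' x y := by simp [mul_assoc]
  map_add' x y := by simp [mul_add, add_mul]

theorem scal_mem_keep (c : Fˣ) : MulAut.conj (scal c : GL ι F) ∈ keep mat := by
  intro x
  rw [MulAut.conj_apply, scal_comm, mul_inv_cancel_right]

theorem conjAut_eq_one_iff [Nonempty ι] (hr : Rigid mat) {g : GL ι F}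
    (hg : MulAut.conj g ∈ keep mat) :
    indAut hr.inj ⟨MulAut.conj g, hg⟩ = 1 ↔ g ∈ Cfsg.Geo.scalars ι F := by
  constructor
  · intro h1
    refine hr.commutant g fun h hu => ?_
    have := indAut_fixes_unipotent hr (R := conjRing g) (fun x => rfl) h1 hu
    rwa [MulAut.conj_apply, mul_inv_eq_iff_eq_mul] at this
  · rintro ⟨c, rfl⟩
    refine (indAut_eq_one_iff hr).2 fun h => ⟨1, ?_⟩
    show (scal c : GL ι F) * mat h * (scal c)⁻¹ = _
    rw [scal_comm, mul_inv_cancel_right, map_one, one_mul]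

theorem galAut_eq_one [Nonempty ι] (hr : Rigid mat) {σ : F ≃+* F} (hσ : galGL σ ∈ keep mat)
    (hfix : (∀ h, IsNilpotent ((mat h : Matrix ι ι F) - 1) → galGL σ (mat h) = mat h) → σ = 1)
    (h1 : indAut hr.inj ⟨galGL σ, hσ⟩ = 1) : σ = 1 :=
  hfix fun _ hu => indAut_fixes_unipotent hr (R := σ.mapMatrix) (fun _ => rfl) h1 hu

/-- Conjugation by elements of `S`, acting on `H ⧸ Z(H)`. -/
noncomputable def conjAut (hinj : Function.Injective mat) (S : Subgroup (GL ι F))
    (hS : ∀ g ∈ S, MulAut.conj g ∈ keep mat) : S →* MulAut (H ⧸ Subgroup.center H) :=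
  (indAut hinj).comp
    ((MulAut.conj.comp S.subtype).codRestrict (keep mat) fun g => hS g.1 g.2)

theorem conjAut_apply (hinj : Function.Injective mat) (S : Subgroup (GL ι F))
    (hS : ∀ g ∈ S, MulAut.conj g ∈ keep mat) (g : S) :
    conjAut hinj S hS g = indAut hinj ⟨MulAut.conj g.1, hS g.1 g.2⟩ := rfl

theorem closure_isInd_eq_range (hinj : Function.Injective mat) (S : Subgroup (GL ι F))
    (hS : ∀ g ∈ S, MulAut.conj g ∈ keep mat)
    (P : (H ⧸ Subgroup.center H ≃* H ⧸ Subgroup.center H) → Prop)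
    (hP : ∀ β, P β ↔ ∃ g ∈ S, IsInd mat (MulAut.conj g) β) :
    Cfsg.autSubgroupOf P = (conjAut hinj S hS).range := by
  apply le_antisymm
  · refine (Subgroup.closure_le _).2 fun β hβ => ?_
    obtain ⟨g, hg, hgβ⟩ := (hP β).1 hβ
    exact ⟨⟨g, hg⟩, ((isInd_iff hinj (hS g hg)).1 hgβ).symm⟩
  · rintro _ ⟨g, rfl⟩
    exact Subgroup.subset_closure ((hP _).2 ⟨g.1, g.2, (isInd_iff hinj (hS g.1 g.2)).2 rfl⟩)

/-- Semilinear automorphisms preserving `S` normalise the image of `S`. -/
theorem range_conjAut_normalized (hinj : Function.Injective mat) (S : Subgroup (GL ι F))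
    (hS : ∀ g ∈ S, MulAut.conj g ∈ keep mat) (ψ : keep mat) (hψS : ∀ g, ψ.1 g ∈ S ↔ g ∈ S) :
    indAut hinj ψ ∈ Subgroup.normalizer
      ((conjAut hinj S hS).range : Set (MulAut (H ⧸ Subgroup.center H))) := by
  have key : ∀ g : S, indAut hinj ψ * conjAut hinj S hS g * (indAut hinj ψ)⁻¹
      = conjAut hinj S hS ⟨ψ.1 g.1, (hψS g.1).2 g.2⟩ := by
    intro g
    rw [conjAut_apply, conjAut_apply, ← map_inv, ← map_mul, ← map_mul]
    congr 1
    refine Subtype.ext (MulEquiv.ext fun x => ?_)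
    simp [MulAut.mul_apply, MulAut.conj_apply]
  rw [Subgroup.mem_normalizer_iff]
  intro β
  constructor
  · rintro ⟨g, rfl⟩; exact ⟨_, (key g).symm⟩
  · rintro ⟨g, hg⟩
    refine ⟨⟨ψ.1⁻¹ g.1, (hψS _).1 (by simp)⟩, ?_⟩
    have h1 := key ⟨ψ.1⁻¹ g.1, (hψS _).1 (by simp)⟩
    have h2 : (⟨ψ.1 (ψ.1⁻¹ g.1), by simp⟩ : S) = g := Subtype.ext (by simp)
    rw [h2, hg] at h1
    simpa using h1

end Cfsg.Agent.FieldAut
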