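import Cfsg.Agent.Lib.FieldAut.Basic

/-!
# Centralisers, coset conjugacy and class splitting of a field automorphism

* `splitClassCount_eq_index`, and transport of all three notions along conjugation:
  `centralizerConjEquiv`, `splitClassCount_conj`, `coset_conj_transport`.
* `Setup` : a rigid carrier, a group `S` of similitudes normalising it, and `σ` of order `r`.
  `Setup.coset_conj`, `Setup.centralizerEquiv`, `Setup.splitClassCount_eq`, `Setup.orderOf_phi`.
-/

set_option autoImplicit false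

namespace Cfsg.Agent.FieldAut

open scoped MatrixGroups

section Abstract

variable {X : Type*} [Group X]

theorem isConjUnder_equivalence (K : Subgroup X) : Equivalence (Cfsg.IsConjUnder K) where
  refl x := ⟨1, one_mem _, by simp⟩
  symm := fun ⟨h, hh, e⟩ => ⟨h⁻¹, inv_mem hh, by rw [e]; group⟩
  trans := fun ⟨h, hh, e⟩ ⟨k, hk, e'⟩ => ⟨k * h, mul_mem hk hh, by rw [e', e]; group⟩

theorem splitClassCount_eq_index (H K : Subgroup X) [K.Normal] (hKH : K ≤ H) (x : X) :
    Cfsg.splitClassCount H K x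
      = ((K ⊔ H ⊓ Subgroup.centralizer {x}).subgroupOf H).index := by
  set M := (K ⊔ H ⊓ Subgroup.centralizer {x}).subgroupOf H with hM
  let rel : {y : X // Cfsg.IsConjUnder H x y} → {y : X // Cfsg.IsConjUnder H x y} → Prop :=
    fun y z => Cfsg.IsConjUnder K y.1 z.1
  let f : H → Quot rel := fun h => Quot.mk rel ⟨h.1 * x * h.1⁻¹, h.1, h.2, rfl⟩
  have hwd : ∀ h h' : H, h⁻¹ * h' ∈ M → f h = f h' := by
    intro h h' hm
    have hm' : (h : X)⁻¹ * h' ∈ K ⊔ H ⊓ Subgroup.centralizer {x} := hm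
    obtain ⟨k, hk, c, hc, hkc⟩ := Subgroup.mem_sup_of_normal_left.1 hm'
    refine Quot.sound ⟨(h : X) * k * (h : X)⁻¹, Subgroup.Normal.conj_mem ‹_› k hk _, ?_⟩
    have hcx : x * c = c * x := Subgroup.mem_centralizer_singleton_iff.1 hc.2 |>.symm
    have hh' : (h' : X) = h * (k * c) := by rw [hkc, mul_inv_cancel_left]
    show (h' : X) * x * (h' : X)⁻¹ = _
    rw [hh']
    calc (h : X) * (k * c) * x * ((h : X) * (k * c))⁻¹
        = h * k * (c * x * c⁻¹) * k⁻¹ * (h : X)⁻¹ := by group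
      _ = h * k * x * k⁻¹ * (h : X)⁻¹ := by rw [← hcx, mul_inv_cancel_right]
      _ = _ := by group
  let F : H ⧸ M → Quot rel := fun q =>
    Quotient.liftOn' q f fun a b hab => hwd a b (QuotientGroup.leftRel_apply.1 hab)
  refine (Nat.card_congr (Equiv.ofBijective F ⟨?_, ?_⟩)).symm
  · intro q q'
    obtain ⟨a, rfl⟩ := QuotientGroup.mk_surjective q
    obtain ⟨b, rfl⟩ := QuotientGroup.mk_surjective q'
    intro (hab : f a = f b)
    have heq : Equivalence rel :=
      { refl := fun y => (isConjUnder_equivalence K).refl y.1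
        symm := fun h => (isConjUnder_equivalence K).symm h
        trans := fun h h' => (isConjUnder_equivalence K).trans h h' }
    obtain ⟨k, hk, e⟩ : Cfsg.IsConjUnder K ((a : X) * x * (a : X)⁻¹) ((b : X) * x * (b : X)⁻¹) :=
      (Equivalence.eqvGen_iff heq).1 (Quot.eqvGen_exact hab)
    rw [QuotientGroup.eq]
    show (a : X)⁻¹ * b ∈ K ⊔ H ⊓ Subgroup.centralizer {x}
    set c := (k * (a : X))⁻¹ * b with hc
    have hcC : c ∈ H ⊓ Subgroup.centralizer {x} := by
      refine Subgroup.mem_inf.2 ⟨mul_mem (inv_mem (mul_mem (hKH hk) a.2)) b.2,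
        Subgroup.mem_centralizer_singleton_iff.2 ?_⟩
      calc c * x = (k * (a : X))⁻¹ * ((b : X) * x * (b : X)⁻¹) * b := by rw [hc]; group
        _ = x * c := by rw [e, hc]; group
    have : (a : X)⁻¹ * b = ((a : X)⁻¹ * k * a) * c := by rw [hc]; group
    rw [this]
    refine mul_mem (Subgroup.mem_sup_left ?_) (Subgroup.mem_sup_right hcC)
    simpa using Subgroup.Normal.conj_mem ‹_› k hk (a : X)⁻¹
  · intro q
    obtain ⟨⟨y, h, hh, rfl⟩, rfl⟩ := Quot.exists_rep q
    exact ⟨QuotientGroup.mk (⟨h, hh⟩ : H), rfl⟩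

theorem map_conj_eq {H : Subgroup X} {a : X} (ha : a ∈ Subgroup.normalizer (H : Set X)) (y : X) :
    a * y * a⁻¹ ∈ H ↔ y ∈ H := (Subgroup.mem_normalizer_iff.1 ha y).symm

/-- Conjugation by a normalising element identifies the centralisers of `x` and `a x a⁻¹` in `H`. -/
def centralizerConjEquiv {H : Subgroup X} {a : X} (ha : a ∈ Subgroup.normalizer (H : Set X))
    {x φ : X} (hx : a * x * a⁻¹ = φ) :
    ↥(H ⊓ Subgroup.centralizer {x}) ≃* ↥(H ⊓ Subgroup.centralizer {φ}) where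
  toFun y := ⟨a * y.1 * a⁻¹, (map_conj_eq ha y.1).2 y.2.1, by
    have h := Subgroup.mem_centralizer_singleton_iff.1 y.2.2
    refine Subgroup.mem_centralizer_singleton_iff.2 ?_
    calc a * y.1 * a⁻¹ * φ = a * (y.1 * x) * a⁻¹ := by subst hx; group
      _ = φ * (a * y.1 * a⁻¹) := by rw [h]; subst hx; group⟩
  invFun y := ⟨a⁻¹ * y.1 * a, by
      have := (map_conj_eq ha (a⁻¹ * y.1 * a)).1 (by simpa [mul_assoc] using y.2.1)
      exact this, by
    have h := Subgroup.mem_centralizer_singleton_iff.1 y.2.2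
    refine Subgroup.mem_centralizer_singleton_iff.2 ?_
    calc a⁻¹ * y.1 * a * x = a⁻¹ * (y.1 * φ) * a := by subst hx; group
      _ = x * (a⁻¹ * y.1 * a) := by rw [h]; subst hx; group⟩
  left_inv y := Subtype.ext (by simp [mul_assoc])
  right_inv y := Subtype.ext (by simp [mul_assoc])
  map_mul' y z := Subtype.ext (by simp [mul_assoc])

theorem splitClassCount_conj {H K : Subgroup X} [K.Normal] {a : X}
    (ha : a ∈ Subgroup.normalizer (H : Set X)) {x φ : X} (hx : a * x * a⁻¹ = φ) :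
    Cfsg.splitClassCount H K x = Cfsg.splitClassCount H K φ := by
  have hmem : ∀ y, Cfsg.IsConjUnder H x y ↔ Cfsg.IsConjUnder H φ (a * y * a⁻¹) := by
    intro y
    constructor
    · rintro ⟨h, hh, rfl⟩
      exact ⟨a * h * a⁻¹, (map_conj_eq ha h).2 hh, by rw [← hx]; group⟩
    · rintro ⟨h, hh, e⟩
      refine ⟨a⁻¹ * h * a, (map_conj_eq ha _).1 (by simpa [mul_assoc] using hh), ?_⟩
      calc y = a⁻¹ * (a * y * a⁻¹) * a := by group
        _ = _ := by rw [e, ← hx]; group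
  refine Nat.card_congr (Quot.congr ((MulAut.conj a).toEquiv.subtypeEquiv hmem) fun y z => ?_)
  show Cfsg.IsConjUnder K y.1 z.1 ↔ Cfsg.IsConjUnder K (a * y.1 * a⁻¹) (a * z.1 * a⁻¹)
  constructor
  · rintro ⟨k, hk, e⟩
    exact ⟨a * k * a⁻¹, Subgroup.Normal.conj_mem ‹_› k hk a, by rw [e]; group⟩
  · rintro ⟨k, hk, e⟩
    refine ⟨a⁻¹ * k * a, by simpa using Subgroup.Normal.conj_mem ‹_› k hk a⁻¹, ?_⟩
    calc z.1 = a⁻¹ * (a * z.1 * a⁻¹) * a := by group
      _ = _ := by rw [e]; group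

/-- The coset-conjugacy criterion transports along conjugation by a normalising element. -/
theorem coset_conj_transport {H : Subgroup X} {a : X} (ha : a ∈ Subgroup.normalizer (H : Set X))
    {x φ : X} (hx : a * x * a⁻¹ = φ) {r : ℕ}
    (hφ : ∀ δ ∈ H, orderOf (δ * φ) = r → Cfsg.IsConjUnder H φ (δ * φ))
    (hxr : orderOf x = r) {δ : X} (hδ : δ ∈ H) :
    orderOf (δ * x) = r ↔ Cfsg.IsConjUnder H x (δ * x) := by
  constructor
  · intro hord
    have h1 : orderOf (a * δ * a⁻¹ * φ) = r := by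
      rw [← hord, show a * δ * a⁻¹ * φ = MulAut.conj a (δ * x) by
        rw [MulAut.conj_apply, ← hx]; group]
      exact (MulAut.conj a).orderOf_eq _
    obtain ⟨h, hh, e⟩ := hφ _ ((map_conj_eq ha δ).2 hδ) h1
    refine ⟨a⁻¹ * h * a, (map_conj_eq ha _).1 (by simpa [mul_assoc] using hh), ?_⟩
    calc δ * x = a⁻¹ * (a * δ * a⁻¹ * φ) * a := by rw [← hx]; group
      _ = _ := by rw [e, ← hx]; group
  · rintro ⟨h, -, e⟩
    rw [← hxr, e, ← MulAut.conj_apply]
    exact (MulAut.conj h).orderOf_eq x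

end Abstract

variable {ι : Type} [Fintype ι] [DecidableEq ι] {F : Type*} [Field F] {H : Type*} [Group H]

/-- Entrywise map of the general linear group along a ring homomorphism. -/
def mapGL {F₀ : Type*} [Field F₀] (e : F₀ →+* F) : GL ι F₀ →* GL ι F :=
  Units.map e.mapMatrix.toMonoidHom

@[simp] theorem mapGL_coe {F₀ : Type*} [Field F₀] (e : F₀ →+* F) (g : GL ι F₀) :
    ((mapGL e g : GL ι F) : Matrix ι ι F) = (g : Matrix ι ι F₀).map e := rfl

theorem galGL_mapGL {F₀ : Type*} [Field F₀] (e : F₀ →+* F) {σ : F ≃+* F}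
    (hfix : ∀ x, σ (e x) = e x) (g : GL ι F₀) : galGL σ (mapGL e g : GL ι F) = mapGL e g := by
  ext i j; exact hfix _

/-- A rigid carrier with a group `S` of similitudes and a field automorphism of order `r`. -/
structure Setup (mat : H →* GL ι F) (S : Subgroup (GL ι F)) (σ : F ≃+* F) (r : ℕ) : Prop where
  rigid : Rigid mat
  nonempty : Nonempty ι
  keepS : ∀ g ∈ S, MulAut.conj g ∈ keep mat
  keepσ : galGL σ ∈ keep mat
  stableS : ∀ g ∈ S, galGL σ g ∈ S
  ordσ : orderOf σ = r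
  rpos : 0 < r

namespace Setup

variable {mat : H →* GL ι F} {S : Subgroup (GL ι F)} {σ : F ≃+* F} {r : ℕ}
  (D : Setup mat S σ r)

/-- The inner-diagonal group of the setup. -/
noncomputable def G : Subgroup (MulAut (H ⧸ Subgroup.center H)) :=
  (conjAut D.rigid.inj S D.keepS).range

/-- The field automorphism of the setup. -/
noncomputable def phi : MulAut (H ⧸ Subgroup.center H) :=
  indAut D.rigid.inj ⟨galGL σ, D.keepσ⟩

theorem phi_pow : D.phi ^ r = 1 := by
  rw [phi, ← map_pow]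
  convert map_one (indAut D.rigid.inj)
  refine Subtype.ext ?_
  show galGL σ ^ r = (1 : MulAut (GL ι F))
  rw [← map_pow, ← D.ordσ, pow_orderOf_eq_one, map_one]

include D in
theorem twNorm_mem {g : GL ι F} (hg : g ∈ S) (n : ℕ) : twNorm σ n g ∈ S := by
  induction n with
  | zero => exact one_mem _
  | succ n ih => exact mul_mem hg (D.stableS _ ih)

theorem pow_eq_twNorm {g : GL ι F} (hg : g ∈ S) :
    (conjAut D.rigid.inj S D.keepS ⟨g, hg⟩ * D.phi) ^ r
      = conjAut D.rigid.inj S D.keepS ⟨twNorm σ r g, D.twNorm_mem hg r⟩ := by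
  rw [conjAut_apply, conjAut_apply, phi, ← map_mul, ← map_pow]
  congr 1
  refine Subtype.ext ?_
  show (MulAut.conj g * galGL σ) ^ r = _
  have hσr : σ ^ r = 1 := by
    have := pow_orderOf_eq_one σ
    rwa [D.ordσ] at this
  rw [conjGal_pow, hσr, map_one, mul_one]

theorem phi_conj {k : GL ι F} (hk : k ∈ S) :
    D.phi * conjAut D.rigid.inj S D.keepS ⟨k, hk⟩
      = conjAut D.rigid.inj S D.keepS ⟨galGL σ k, D.stableS k hk⟩ * D.phi := by
  rw [conjAut_apply, conjAut_apply, phi, ← map_mul, ← map_mul]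
  congr 1
  exact Subtype.ext (MulEquiv.ext fun x => by simp [MulAut.mul_apply, MulAut.conj_apply])

theorem conjAut_scal_mul {a : Fˣ} {g h : GL ι F} (hg : g ∈ S) (hh : h ∈ S)
    (e : g = scal a * h) :
    conjAut D.rigid.inj S D.keepS ⟨g, hg⟩ = conjAut D.rigid.inj S D.keepS ⟨h, hh⟩ := by
  rw [conjAut_apply, conjAut_apply]
  congr 1
  refine Subtype.ext (MulEquiv.ext fun x => ?_)
  show g * x * g⁻¹ = h * x * h⁻¹
  rw [e, mul_inv_rev, mul_assoc, mul_assoc, ← mul_assoc x, ← mul_assoc h, ← mul_assoc h,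
    ← mul_assoc (scal a), scal_comm, mul_inv_cancel_right]

theorem conjAut_eq_iff {g h : GL ι F} (hg : g ∈ S) (hh : h ∈ S) :
    conjAut D.rigid.inj S D.keepS ⟨g, hg⟩ = conjAut D.rigid.inj S D.keepS ⟨h, hh⟩ ↔
      ∃ a : Fˣ, g = scal a * h := by
  have := D.nonempty
  refine ⟨fun e => ?_, fun ⟨a, ha⟩ => D.conjAut_scal_mul hg hh ha⟩
  have h1 : conjAut D.rigid.inj S D.keepS (⟨g, hg⟩ * ⟨h, hh⟩⁻¹) = 1 := by
    rw [map_mul, map_inv, e, mul_inv_cancel]
  rw [conjAut_apply, conjAut_eq_one_iff D.rigid] at h1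
  obtain ⟨a, ha⟩ := h1
  refine ⟨a, ?_⟩
  show g = (scal a : GL ι F) * h
  rw [show (scal a : GL ι F) = g * h⁻¹ from ha, inv_mul_cancel_right]

/-- The coset criterion, given Lang's theorem in the similitude group. -/
theorem coset_conj (hdesc : ∀ g ∈ S, (∃ z : Fˣ, twNorm σ r g = scal z) →
      ∃ k ∈ S, ∃ a : Fˣ, g = scal a * (k * (galGL σ k)⁻¹))
    {δ : MulAut (H ⧸ Subgroup.center H)} (hδ : δ ∈ D.G) (hord : orderOf (δ * D.phi) = r) :
    Cfsg.IsConjUnder D.G D.phi (δ * D.phi) := by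
  have := D.nonempty
  obtain ⟨⟨g, hg⟩, rfl⟩ := hδ
  have h1 := pow_orderOf_eq_one (conjAut D.rigid.inj S D.keepS ⟨g, hg⟩ * D.phi)
  rw [hord, D.pow_eq_twNorm hg, conjAut_apply, conjAut_eq_one_iff D.rigid] at h1
  obtain ⟨z, hz⟩ := h1
  obtain ⟨k, hk, a, hga⟩ := hdesc g hg ⟨z, hz.symm⟩
  refine ⟨_, ⟨⟨k, hk⟩, rfl⟩, ?_⟩
  have hk' : k * (galGL σ k)⁻¹ ∈ S := mul_mem hk (inv_mem (D.stableS k hk))
  rw [D.conjAut_scal_mul hg hk' hga]
  rw [show (⟨k * (galGL σ k)⁻¹, hk'⟩ : S) = ⟨k, hk⟩ * ⟨galGL σ k, D.stableS k hk⟩⁻¹ from rfl,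
    map_mul, map_inv, mul_assoc, mul_assoc]
  congr 1
  rw [inv_mul_eq_iff_eq_mul, ← mul_assoc, ← D.phi_conj hk, mul_inv_cancel_right]

theorem mem_centralizer_iff {g : GL ι F} (hg : g ∈ S) :
    conjAut D.rigid.inj S D.keepS ⟨g, hg⟩ ∈ Subgroup.centralizer {D.phi} ↔
      ∃ a : Fˣ, galGL σ g = scal a * g := by
  rw [Subgroup.mem_centralizer_singleton_iff, D.phi_conj hg, mul_left_inj, eq_comm,
    D.conjAut_eq_iff]

/-- The elements of `S` whose class commutes with the field automorphism. -/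
noncomputable def fixS : Subgroup S :=
  (Subgroup.centralizer {D.phi}).comap (conjAut D.rigid.inj S D.keepS)

theorem mem_fixS {g : S} : g ∈ D.fixS ↔ ∃ a : Fˣ, galGL σ g.1 = scal a * g.1 := by
  rw [fixS, Subgroup.mem_comap]
  exact D.mem_centralizer_iff g.2

/-- The centraliser of the field automorphism in the inner-diagonal group. -/
theorem centralizerEquiv {F₀ : Type*} [Field F₀] (e : F₀ →+* F) (hfix : ∀ x, σ (e x) = e x)
    (S₀ : Subgroup (GL ι F₀)) (hmap : ∀ g ∈ S₀, mapGL e g ∈ S)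
    (hsurj : ∀ g ∈ S, (∃ a : Fˣ, galGL σ g = scal a * g) →
      ∃ g₀ ∈ S₀, ∃ a : Fˣ, g = scal a * mapGL e g₀) :
    Nonempty (↥(D.G ⊓ Subgroup.centralizer {D.phi}) ≃* Cfsg.projQuot S₀) := by
  have := D.nonempty
  let f : S₀ →* ↥(D.G ⊓ Subgroup.centralizer {D.phi}) :=
    ((conjAut D.rigid.inj S D.keepS).comp
      (((mapGL e).comp S₀.subtype).codRestrict S fun g => hmap g.1 g.2)).codRestrict _ fun g =>
      ⟨⟨_, rfl⟩, (D.mem_centralizer_iff (hmap g.1 g.2)).2
        ⟨1, by rw [map_one, one_mul]; exact galGL_mapGL e hfix g.1⟩⟩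
  have hf : Function.Surjective f := by
    rintro ⟨_, ⟨⟨g, hg⟩, rfl⟩, hc⟩
    obtain ⟨g₀, hg₀, a, ha⟩ := hsurj g hg ((D.mem_centralizer_iff hg).1 hc)
    exact ⟨⟨g₀, hg₀⟩, Subtype.ext (D.conjAut_scal_mul hg (hmap g₀ hg₀) ha).symm⟩
  have hker : f.ker = (Cfsg.Geo.scalars ι F₀).subgroupOf S₀ := by
    ext g
    rw [MonoidHom.mem_ker, Subtype.ext_iff, Subgroup.mem_subgroupOf]
    show conjAut D.rigid.inj S D.keepS ⟨mapGL e g.1, hmap g.1 g.2⟩ = 1 ↔ _
    rw [conjAut_apply, conjAut_eq_one_iff D.rigid]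
    constructor
    · rintro ⟨c, hc⟩
      have hmat : ∀ i j, ((scal c : GL ι F) : Matrix ι ι F) i j
          = e ((g.1 : Matrix ι ι F₀) i j) := fun i j =>
        congrArg (fun x : GL ι F => (x : Matrix ι ι F) i j) hc
      obtain ⟨i₀⟩ := D.nonempty
      set c₀ := (g.1 : Matrix ι ι F₀) i₀ i₀ with hc₀
      have hec : e c₀ = (c : F) := by rw [hc₀, ← hmat]; simp [scal_coe]
      have hc0 : c₀ ≠ 0 := fun h => c.ne_zero (by rw [← hec, h, map_zero])
      refine (Cfsg.Geo.mem_scalars_iff _).2 ⟨Units.mk0 c₀ hc0, ?_⟩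
      ext i j
      apply e.injective
      rw [← hmat, scal_coe, Units.val_mk0, ← hec]
      by_cases hij : i = j <;> simp [hij]
    · rintro ⟨c, hc⟩
      refine ⟨Units.map e.toMonoidHom c, ?_⟩
      show (scal _ : GL ι F) = mapGL e g.1
      have hc' : ((g.1 : GL ι F₀) : Matrix ι ι F₀) = ((scal c : GL ι F₀) : Matrix ι ι F₀) :=
        congrArg Units.val hc.symm
      ext i j
      rw [mapGL_coe, hc']
      by_cases hij : i = j <;> simp [scal_coe, hij]
  exact ⟨((QuotientGroup.quotientMulEquivOfEq hker.symm).trans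
    (QuotientGroup.quotientKerEquivOfSurjective f hf)).symm⟩

/-- The class of the field automorphism splits according to the image of `fixS` under an invariant. -/
theorem splitClassCount_eq {A : Type*} [Group A] (χ : S →* A)
    (hInn : Cfsg.Inn (H ⧸ Subgroup.center H) ≤ D.G)
    (hker : ∀ g : S, χ g = 1 ↔ conjAut D.rigid.inj S D.keepS g ∈ Cfsg.Inn (H ⧸ Subgroup.center H)) :
    Cfsg.splitClassCount D.G (Cfsg.Inn (H ⧸ Subgroup.center H)) D.phi
      = (D.fixS.map χ).relIndex χ.range := by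
  rw [splitClassCount_eq_index _ _ hInn]
  set f := conjAut D.rigid.inj S D.keepS with hfdef
  set M := Cfsg.Inn (H ⧸ Subgroup.center H) ⊔ D.G ⊓ Subgroup.centralizer {D.phi} with hM
  have h1 : (M.comap f).index = (M.subgroupOf D.G).index := Subgroup.index_comap _ _
  have h2 : M.comap f = D.fixS ⊔ χ.ker := by
    apply le_antisymm
    · intro g hg
      obtain ⟨u, hu, c, hc, huc⟩ := Subgroup.mem_sup_of_normal_left.1 (Subgroup.mem_comap.1 hg)
      obtain ⟨⟨gc, rfl⟩, hcc⟩ := hc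
      rw [show g = g * gc⁻¹ * gc by group, sup_comm]
      refine mul_mem (Subgroup.mem_sup_left ?_) (Subgroup.mem_sup_right (Subgroup.mem_comap.2 hcc))
      rw [MonoidHom.mem_ker, hker, map_mul, map_inv, ← huc]
      show u * f gc * (f gc)⁻¹ ∈ _
      rwa [mul_inv_cancel_right]
    · refine sup_le (fun g hg => ?_) fun g hg => ?_
      · exact Subgroup.mem_comap.2 (Subgroup.mem_sup_right ⟨⟨g, rfl⟩, hg⟩)
      · exact Subgroup.mem_comap.2 (Subgroup.mem_sup_left ((hker g).1 hg))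
  rw [← h1, h2, ← Subgroup.index_comap, Subgroup.comap_map_eq]

end Setup

end Cfsg.Agent.FieldAut
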