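import Cfsg.Agent.Lib.FieldAut.Tools
import Cfsg.Agent.Lib.GLOrder.Symplectic
import Cfsg.Agent.Lib.Linear.Symplectic

/-!
# Field automorphisms of `PSp_{2m}(q)`

`spMat`, `spRigid`, `inndiagPSp_eq`, `PSp_field_setup`, and the two theorems `psp_coset_conj`,
`psp_centralizer_and_split`, each given that inner-diagonal automorphisms form a normal set
(`PSpAutHyp` : `gammaPSp = ⊤` in odd characteristic).
-/

set_option autoImplicit false

namespace Cfsg.Agent.FieldAut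

open scoped MatrixGroups Matrix

variable {m : ℕ} {F : Type*} [Field F]

local notation "V" => Fin m ⊕ Fin m → F
local notation "JJ" => Matrix.J (Fin m) F

/-- The symplectic group as matrices. -/
noncomputable def spMat (m : ℕ) (F : Type*) [Field F] :
    Matrix.symplecticGroup (Fin m) F →* GL (Fin m ⊕ Fin m) F :=
  (Cfsg.spGL m F).subtype.comp (Linear.spEquiv m F).toMonoidHom

theorem spMat_coe (h : Matrix.symplecticGroup (Fin m) F) :
    ((spMat m F h : GL (Fin m ⊕ Fin m) F) : Matrix (Fin m ⊕ Fin m) (Fin m ⊕ Fin m) F) = h.1 := rfl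

theorem spMat_injective : Function.Injective (spMat m F) := fun _ _ h =>
  Subtype.ext (congrArg Units.val h :)

theorem mem_spMat_range {g : GL (Fin m ⊕ Fin m) F} :
    g ∈ (spMat m F).range ↔ g.1ᵀ * JJ * g.1 = JJ := by
  rw [← SymplecticGroup.mem_iff']
  constructor
  · rintro ⟨h, rfl⟩; exact h.2
  · intro h; exact ⟨⟨g.1, h⟩, Units.ext rfl⟩

theorem sympForm_mulVec (g : Matrix (Fin m ⊕ Fin m) (Fin m ⊕ Fin m) F) (u v : V) :
    Cfsg.sympForm m F (g *ᵥ u) (g *ᵥ v) = u ⬝ᵥ ((gᵀ * JJ * g) *ᵥ v) := by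
  rw [Cfsg.sympForm, Matrix.mulVec_mulVec, Matrix.dotProduct_mulVec, Matrix.vecMul_mulVec,
    ← Matrix.dotProduct_mulVec, Matrix.mul_assoc]

theorem mem_GSp_iff {g : GL (Fin m ⊕ Fin m) F} :
    g ∈ Cfsg.GSp m F ↔ ∃ c : Fˣ, g.1ᵀ * JJ * g.1 = (c : F) • JJ := by
  constructor
  · rintro ⟨c, hc⟩
    refine ⟨c, Matrix.ext fun i j => ?_⟩
    have := hc (Pi.single i 1) (Pi.single j 1)
    rw [sympForm_mulVec] at this
    simpa [Cfsg.sympForm, Matrix.mulVec_single_one, single_one_dotProduct] using this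
  · rintro ⟨c, hc⟩
    refine ⟨c, fun u v => ?_⟩
    rw [sympForm_mulVec, hc, Matrix.smul_mulVec, dotProduct_smul, smul_eq_mul, Cfsg.sympForm]

theorem spMat_mem_GSp (h : Matrix.symplecticGroup (Fin m) F) : spMat m F h ∈ Cfsg.GSp m F :=
  mem_GSp_iff.2 ⟨1, by rw [Units.val_one, one_smul]; exact mem_spMat_range.1 ⟨h, rfl⟩⟩

theorem scal_mem_GSp (a : Fˣ) : (scal a : GL (Fin m ⊕ Fin m) F) ∈ Cfsg.GSp m F :=
  mem_GSp_iff.2 ⟨a * a, by
    rw [scal_coe]; simp [Matrix.transpose_smul, smul_smul]⟩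

theorem J_map (σ : F →+* F) : (JJ).map σ = JJ := by
  ext i j
  rcases i with i | i <;> rcases j with j | j <;>
    simp [Matrix.J, Matrix.one_apply, apply_ite σ]

theorem J_map' {F₀ : Type*} [Field F₀] (e : F₀ →+* F) :
    (Matrix.J (Fin m) F₀).map e = JJ := by
  ext i j
  rcases i with i | i <;> rcases j with j | j <;>
    simp [Matrix.J, Matrix.one_apply, apply_ite e]

theorem keep_conj_GSp {g : GL (Fin m ⊕ Fin m) F} (hg : g ∈ Cfsg.GSp m F) :
    MulAut.conj g ∈ keep (spMat m F) := by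
  have key : ∀ g ∈ Cfsg.GSp m F, ∀ x ∈ (spMat m F).range,
      g * x * g⁻¹ ∈ (spMat m F).range := by
    intro g hg x hx
    obtain ⟨c, hc⟩ := mem_GSp_iff.1 hg
    obtain ⟨d, hd⟩ := mem_GSp_iff.1 (inv_mem hg)
    have hx' := mem_spMat_range.1 hx
    have hcd : (d : F) * c = 1 ∨ JJ = 0 := by
      have h1 : (1 : GL (Fin m ⊕ Fin m) F).1ᵀ * JJ * (1 : GL (Fin m ⊕ Fin m) F).1
          = ((d : F) * c) • JJ := by
        conv_lhs => rw [← mul_inv_cancel g, Units.val_mul, Matrix.transpose_mul]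
        calc (g⁻¹ : GL (Fin m ⊕ Fin m) F).1ᵀ * g.1ᵀ * JJ * (g.1 * (g⁻¹ : GL (Fin m ⊕ Fin m) F).1)
            = (g⁻¹ : GL (Fin m ⊕ Fin m) F).1ᵀ * (g.1ᵀ * JJ * g.1) * (g⁻¹ : GL (Fin m ⊕ Fin m) F).1 := by
              simp [Matrix.mul_assoc]
          _ = _ := by rw [hc, Matrix.mul_smul, Matrix.smul_mul, hd, smul_smul, mul_comm]
      simp only [Units.val_one, Matrix.transpose_one, one_mul, mul_one] at h1
      by_cases hJ : JJ = 0
      · exact Or.inr hJ
      · refine Or.inl (sub_eq_zero.1 ((smul_eq_zero.1 ?_).resolve_right hJ))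
        rw [sub_smul, one_smul, ← h1, sub_self]
    refine mem_spMat_range.2 ?_
    rw [Units.val_mul, Units.val_mul, Matrix.transpose_mul, Matrix.transpose_mul]
    calc (g⁻¹ : GL (Fin m ⊕ Fin m) F).1ᵀ * (x.1ᵀ * g.1ᵀ) * JJ *
          (g.1 * x.1 * (g⁻¹ : GL (Fin m ⊕ Fin m) F).1)
        = (g⁻¹ : GL (Fin m ⊕ Fin m) F).1ᵀ * (x.1ᵀ * (g.1ᵀ * JJ * g.1) * x.1) *
          (g⁻¹ : GL (Fin m ⊕ Fin m) F).1 := by simp [Matrix.mul_assoc]
      _ = ((d : F) * c) • JJ := by
          rw [hc, Matrix.mul_smul, Matrix.smul_mul, hx', Matrix.mul_smul, Matrix.smul_mul, hd,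
            smul_smul, mul_comm]
      _ = JJ := by rcases hcd with h | h <;> simp [h]
  intro x
  constructor
  · intro hx
    have := key g⁻¹ (inv_mem hg) _ hx
    simpa [MulAut.conj_apply, mul_assoc] using this
  · intro hx; exact key g hg x hx

theorem galGL_GSp (σ : F ≃+* F) {g : GL (Fin m ⊕ Fin m) F} (hg : g ∈ Cfsg.GSp m F) :
    galGL σ g ∈ Cfsg.GSp m F := by
  obtain ⟨c, hc⟩ := mem_GSp_iff.1 hg
  refine mem_GSp_iff.2 ⟨Units.map σ.toMonoidHom c, ?_⟩
  rw [galGL_apply_coe]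
  have := congrArg (fun X => σ.mapMatrix X) hc
  simp only [map_mul, RingEquiv.mapMatrix_apply, Matrix.transpose_map] at this
  rw [show (JJ).map σ = JJ from J_map σ.toRingHom] at this
  rw [this]
  ext i j
  simp only [Matrix.map_apply, Matrix.smul_apply, smul_eq_mul, map_mul]
  rw [show σ ((JJ) i j) = (JJ) i j from congrFun (congrFun (J_map σ.toRingHom) i) j]
  rfl

theorem keep_gal (σ : F ≃+* F) : galGL σ ∈ keep (spMat m F) := by
  have key : ∀ τ : F ≃+* F, ∀ x ∈ (spMat m F).range, galGL τ x ∈ (spMat m F).range := by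
    intro τ x hx
    rw [mem_spMat_range] at hx ⊢
    have := congrArg (fun X => τ.mapMatrix X) hx
    simp only [map_mul, RingEquiv.mapMatrix_apply, Matrix.transpose_map] at this
    rw [show (JJ).map τ = JJ from J_map τ.toRingHom] at this
    exact this
  intro x
  refine ⟨fun hx => ?_, key σ x⟩
  have := key σ⁻¹ _ hx
  rwa [← MulAut.mul_apply, ← map_mul, inv_mul_cancel, map_one, MulAut.one_apply] at this

theorem isInd_semilinear (g : GL (Fin m ⊕ Fin m) F) (σ : F ≃+* F)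
    (β : Cfsg.PSp m F ≃* Cfsg.PSp m F) :
    Cfsg.IsInducedBySemilinearPSp g σ β ↔ IsInd (spMat m F) (MulAut.conj g * galGL σ : MulAut (GL (Fin m ⊕ Fin m) F)) β :=
  ⟨fun h a a' ha => h a a' (congrArg Units.val ha :),
    fun h a a' ha => h a a' (Units.ext ha)⟩

theorem isInd_std (σ : F ≃+* F) (β : Cfsg.PSp m F ≃* Cfsg.PSp m F) :
    Cfsg.IsStdFieldAutPSp σ β ↔ IsInd (spMat m F) (galGL σ) β :=
  ⟨fun h a a' ha => h a a' (congrArg Units.val ha :),
    fun h a a' ha => h a a' (Units.ext ha)⟩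

theorem isInd_innerDiag (β : Cfsg.PSp m F ≃* Cfsg.PSp m F) :
    Cfsg.IsInnerDiagonalAutPSp β ↔ ∃ g ∈ Cfsg.GSp m F, IsInd (spMat m F) (MulAut.conj g) β := by
  have e : galGL (RingEquiv.refl F) = (1 : MulAut (GL (Fin m ⊕ Fin m) F)) := map_one galGL
  refine exists_congr fun g => and_congr_right fun _ => ?_
  rw [isInd_semilinear, e, mul_one]

/-- The transvection `x ↦ x + B(v,x) v` as an element of the symplectic group. -/
theorem unipotent_transv (v : V) (c : F) :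
    IsNilpotent (((spMat m F (GLOrder.sympTransv v c) : GL (Fin m ⊕ Fin m) F) :
      Matrix (Fin m ⊕ Fin m) (Fin m ⊕ Fin m) F) - 1) := by
  refine ⟨2, Matrix.mulVec_injective (funext fun x => ?_)⟩
  rw [spMat_coe, pow_two, ← Matrix.mulVec_mulVec, Matrix.sub_mulVec, Matrix.sub_mulVec,
    Matrix.one_mulVec, Matrix.one_mulVec, GLOrder.sympTransv_mulVec, GLOrder.sympTransv_mulVec]
  simp [GLOrder.sympB_self]

theorem spRigid : Rigid (spMat m F) where
  inj := spMat_injective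
  commutant g hg := by
    refine mem_scalars_of_eigen g fun v hv => ?_
    obtain ⟨x, hx⟩ := GLOrder.exists_apply_eq_one GLOrder.sympB_nondeg hv
    have hc := hg _ (unipotent_transv v 1)
    have h1 := congrArg (fun k : GL (Fin m ⊕ Fin m) F =>
      (k : Matrix (Fin m ⊕ Fin m) (Fin m ⊕ Fin m) F) *ᵥ x) hc.eq
    simp only [Units.val_mul, ← Matrix.mulVec_mulVec, spMat_coe, GLOrder.sympTransv_mulVec, hx,
      Matrix.mulVec_add, one_mul, one_smul] at h1
    exact ⟨_, add_left_cancel h1⟩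

theorem gal_faithful (hm : 0 < m) {σ : F ≃+* F}
    (h : ∀ a, IsNilpotent ((spMat m F a : Matrix (Fin m ⊕ Fin m) (Fin m ⊕ Fin m) F) - 1) →
      galGL σ (spMat m F a) = spMat m F a) : σ = 1 := by
  refine RingEquiv.ext fun c => ?_
  let i : Fin m ⊕ Fin m := .inl ⟨0, hm⟩
  let k : Fin m ⊕ Fin m := .inr ⟨0, hm⟩
  have h1 := congrArg (fun g : GL (Fin m ⊕ Fin m) F =>
    (g : Matrix (Fin m ⊕ Fin m) (Fin m ⊕ Fin m) F) i k) (h _ (unipotent_transv (Pi.single i 1) c))
  simp only [galGL_apply, spMat_coe] at h1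
  have hentry : (GLOrder.sympTransv (Pi.single i (1 : F)) c).1 i k = c := by
    have := congrFun (GLOrder.sympTransv_mulVec (Pi.single i (1 : F)) (Pi.single k 1) c) i
    rw [Matrix.mulVec_single_one] at this
    simpa [GLOrder.sympB_apply, i, k, Pi.single_apply] using this
  rw [hentry] at h1
  exact h1

/-- The multiplier of a similitude, given a coordinate. -/
noncomputable def mult (hm : 0 < m) : Cfsg.GSp m F →* Fˣ where
  toFun g := (mem_GSp_iff.1 g.2).choose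
  map_one' := multUnique hm (mem_GSp_iff.1 (one_mem (Cfsg.GSp m F))).choose_spec (by simp)
  map_mul' a b := by
    refine multUnique hm (mem_GSp_iff.1 (a * b).2).choose_spec ?_
    have ha := (mem_GSp_iff.1 a.2).choose_spec
    have hb := (mem_GSp_iff.1 b.2).choose_spec
    generalize (mem_GSp_iff.1 a.2).choose = ca at ha ⊢
    generalize (mem_GSp_iff.1 b.2).choose = cb at hb ⊢
    rw [Subgroup.coe_mul, Units.val_mul, Matrix.transpose_mul]
    calc b.1.1ᵀ * a.1.1ᵀ * JJ * (a.1.1 * b.1.1) = b.1.1ᵀ * (a.1.1ᵀ * JJ * a.1.1) * b.1.1 := by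
          simp [Matrix.mul_assoc]
      _ = _ := by rw [ha, Matrix.mul_smul, Matrix.smul_mul, hb, smul_smul, Units.val_mul]
where
  multUnique (hm : 0 < m) {g : Matrix (Fin m ⊕ Fin m) (Fin m ⊕ Fin m) F} {c d : Fˣ}
      (hc : gᵀ * JJ * g = (c : F) • JJ) (hd : gᵀ * JJ * g = (d : F) • JJ) : c = d := by
    refine Units.ext ?_
    have h := congrFun (congrFun (hc.symm.trans hd) (.inr ⟨0, hm⟩)) (.inl ⟨0, hm⟩)
    simpa [Matrix.J, Matrix.smul_apply] using h

theorem mult_spec (hm : 0 < m) (g : Cfsg.GSp m F) :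
    g.1.1ᵀ * JJ * g.1.1 = ((mult hm g : Fˣ) : F) • JJ := (mem_GSp_iff.1 g.2).choose_spec

theorem mult_eq (hm : 0 < m) {g : Cfsg.GSp m F} {c : Fˣ}
    (hc : g.1.1ᵀ * JJ * g.1.1 = (c : F) • JJ) : mult hm g = c :=
  mult.multUnique hm (mult_spec hm g) hc

theorem mult_mk (hm : 0 < m) (g : GL (Fin m ⊕ Fin m) F) (c : Fˣ)
    (hc : g.1ᵀ * JJ * g.1 = (c : F) • JJ) :
    mult hm (⟨g, mem_GSp_iff.2 ⟨c, hc⟩⟩ : Cfsg.GSp m F) = c :=
  mult.multUnique hm (mult_spec hm _) hc

/-- The diagonal similitude of multiplier `c`. -/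
theorem exists_diag_GSp (c : Fˣ) :
    ∃ g : GL (Fin m ⊕ Fin m) F, g.1 = Matrix.fromBlocks ((c : F) • 1) 0 0 1 ∧
      g.1ᵀ * JJ * g.1 = (c : F) • JJ := by
  refine ⟨⟨Matrix.fromBlocks ((c : F) • 1) 0 0 1, Matrix.fromBlocks (((c⁻¹ : Fˣ) : F) • 1) 0 0 1,
    ?_, ?_⟩, rfl, ?_⟩
  · simp [Matrix.fromBlocks_multiply, smul_smul, ← Matrix.fromBlocks_one]
  · simp [Matrix.fromBlocks_multiply, smul_smul, ← Matrix.fromBlocks_one]
  · simp [Matrix.J, Matrix.fromBlocks_transpose, Matrix.fromBlocks_multiply,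
      Matrix.fromBlocks_smul]

/-- A nondegenerate alternating matrix is congruent to `J`. -/
theorem exists_congr_J {K : Type*} [Field K] (B : Matrix (Fin m ⊕ Fin m) (Fin m ⊕ Fin m) K)
    (halt : ∀ x, x ⬝ᵥ (B *ᵥ x) = 0) (hdet : B.det ≠ 0) :
    ∃ h : GL (Fin m ⊕ Fin m) K, h.1ᵀ * B * h.1 = -Matrix.J (Fin m) K := by
  classical
  set β : LinearMap.BilinForm K (Fin m ⊕ Fin m → K) := Matrix.toLinearMap₂' K B with hβ
  have hb : ∀ x y, β x y = x ⬝ᵥ (B *ᵥ y) := fun x y => Matrix.toLinearMap₂'_apply' B x y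
  have halt' : ∀ x, β x x = 0 := fun x => by rw [hb, halt]
  have hnd : ∀ x, (∀ y, β x y = 0) → x = 0 := by
    intro x hx
    refine Matrix.eq_zero_of_vecMul_eq_zero hdet (funext fun j => ?_)
    have := hx (Pi.single j 1)
    rw [hb, Matrix.dotProduct_mulVec] at this
    simpa [dotProduct_single_one] using this
  obtain ⟨⟨⟨e, f⟩, he, hf, hef⟩⟩ := GLOrder.nonempty_frame m β halt' hnd
    (GLOrder.finrank_sympSpace (F := K) (m := m))
  let h : Matrix (Fin m ⊕ Fin m) (Fin m ⊕ Fin m) K := Matrix.of fun i j => Sum.elim e f j i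
  have hkey : hᵀ * B * h = -Matrix.J (Fin m) K := by
    ext a b
    have hab : (hᵀ * B * h) a b = β (Sum.elim e f a) (Sum.elim e f b) := by
      rw [hb, Matrix.mul_assoc]
      simp [Matrix.mul_apply, dotProduct, Matrix.mulVec, h]
    rw [hab]
    have hfe : ∀ i j, β (f i) (e j) = -(if j = i then 1 else 0) := fun i j => by
      rw [GLOrder.alt_swap halt', hef]
    rcases a with a | a <;> rcases b with b | b <;>
      simp [he, hf, hef, hfe, Matrix.J, Matrix.one_apply, eq_comm]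
  have hh : IsUnit h.det := by
    have h1 := congrArg Matrix.det hkey
    rw [Matrix.det_mul, Matrix.det_mul, Matrix.det_transpose] at h1
    have h2 : (-Matrix.J (Fin m) K).det ≠ 0 := by
      rw [Matrix.det_neg]
      exact mul_ne_zero (pow_ne_zero _ (neg_ne_zero.2 one_ne_zero))
        (Matrix.isUnit_det_J (Fin m) K).ne_zero
    exact isUnit_iff_ne_zero.2 fun h0 => h2 (by rw [← h1, h0, zero_mul, zero_mul])
  exact ⟨((Matrix.isUnit_iff_isUnit_det h).2 hh).unit, by rw [IsUnit.unit_spec]; exact hkey⟩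

theorem psp_desc [Finite F] (hm : 0 < m) {σ : F ≃+* F} {r : ℕ} (hσ : orderOf σ = r) (hr : 0 < r)
    {g : GL (Fin m ⊕ Fin m) F} (hg : g ∈ Cfsg.GSp m F)
    (hz : ∃ z : Fˣ, twNorm σ r g = scal z) :
    ∃ k ∈ Cfsg.GSp m F, ∃ a : Fˣ, g = scal a * (k * (galGL σ k)⁻¹) := by
  have : Nonempty (Fin m ⊕ Fin m) := ⟨.inl ⟨0, hm⟩⟩
  obtain ⟨z, hz⟩ := hz
  obtain ⟨a, k, hgk⟩ := exists_twist_of_scalar hσ hr hz
  obtain ⟨c, hc⟩ := mem_GSp_iff.1 hg
  -- the pulled back form
  set B := k.1ᵀ * JJ * k.1 with hB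
  have hσk' : g * galGL σ k = scal a * k := by
    rw [hgk, mul_assoc, inv_mul_cancel_right]
  have hBσ : (c : F) • B.map σ = ((a : F) * a) • B := by
    have h1 : (c : F) • B.map σ
        = (g * galGL σ k).1ᵀ * JJ * (g * galGL σ k).1 := by
      have h2 : B.map σ = (galGL σ k).1ᵀ * JJ * (galGL σ k).1 := by
        rw [hB, galGL_apply_coe, ← Matrix.transpose_map]
        change σ.mapMatrix (k.1ᵀ * JJ * k.1) = σ.mapMatrix k.1ᵀ * JJ * σ.mapMatrix k.1
        rw [map_mul, map_mul]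
        exact congrArg (fun X => σ.mapMatrix k.1ᵀ * X * σ.mapMatrix k.1) (J_map σ.toRingHom)
      rw [h2, Units.val_mul, Matrix.transpose_mul]
      calc (c : F) • ((galGL σ k).1ᵀ * JJ * (galGL σ k).1)
          = (galGL σ k).1ᵀ * (g.1ᵀ * JJ * g.1) * (galGL σ k).1 := by
            rw [hc, Matrix.mul_smul, Matrix.smul_mul]
        _ = _ := by simp [Matrix.mul_assoc]
    rw [h1, hσk', Units.val_mul, scal_coe]
    simp [Matrix.transpose_smul, smul_smul, B]
  have hent : ∀ p : (Fin m ⊕ Fin m) × (Fin m ⊕ Fin m),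
      σ (B p.1 p.2) = ((a * a * c⁻¹ : Fˣ) : F) * B p.1 p.2 := by
    intro p
    have := congrFun (congrFun hBσ p.1) p.2
    simp only [Matrix.smul_apply, Matrix.map_apply, smul_eq_mul] at this
    push_cast
    field_simp
    linear_combination this
  have hBdet : B.det ≠ 0 := by
    rw [hB, Matrix.det_mul, Matrix.det_mul, Matrix.det_transpose]
    exact mul_ne_zero (mul_ne_zero k.det_ne_zero (Matrix.isUnit_det_J (Fin m) F).ne_zero)
      k.det_ne_zero
  have hne : ∃ p : (Fin m ⊕ Fin m) × (Fin m ⊕ Fin m), B p.1 p.2 ≠ 0 := by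
    by_contra! h0
    exact hBdet (by rw [show B = 0 from Matrix.ext fun i j => h0 (i, j), Matrix.det_zero])
  obtain ⟨d, -, hd⟩ := exists_fixed_multiple hσ hr hne hent
  let B₀ : Matrix (Fin m ⊕ Fin m) (Fin m ⊕ Fin m) (fixF σ) :=
    Matrix.of fun i j => ⟨(d⁻¹ : Fˣ) * B i j, (mem_fixF σ).2 (hd (i, j))⟩
  have hB₀ : B₀.map (fixF σ).subtype = ((d⁻¹ : Fˣ) : F) • B := rfl
  have halt : ∀ x, x ⬝ᵥ (B₀ *ᵥ x) = 0 := by
    intro x
    apply (fixF σ).subtype.injective
    rw [map_zero, RingHom.map_dotProduct]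
    have : (fixF σ).subtype ∘ (B₀ *ᵥ x) = B₀.map (fixF σ).subtype *ᵥ ((fixF σ).subtype ∘ x) :=
      funext fun i => RingHom.map_mulVec _ _ _ i
    rw [this, hB₀, Matrix.smul_mulVec, dotProduct_smul, hB, ← sympForm_mulVec,
      Linear.sympForm_self, smul_zero]
  have hdet0 : B₀.det ≠ 0 := by
    intro h0
    have := (fixF σ).subtype.map_det B₀
    rw [h0, map_zero, RingHom.mapMatrix_apply, hB₀, Matrix.det_smul] at this
    exact mul_ne_zero (pow_ne_zero _ (Units.ne_zero _)) hBdet this.symm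
  obtain ⟨h, hh⟩ := exists_congr_J B₀ halt hdet0
  set h' := mapGL (fixF σ).subtype h with hh'
  have hh'σ : galGL σ h' = h' :=
    galGL_mapGL _ (fun x => (mem_fixF σ).1 x.2) h
  refine ⟨k * h', mem_GSp_iff.2 ⟨-d, ?_⟩, a, ?_⟩
  · have h1 := congrArg (fun X => (fixF σ).subtype.mapMatrix X) hh
    simp only [map_mul, map_neg, RingHom.mapMatrix_apply, Matrix.transpose_map] at h1
    rw [hB₀, J_map', Matrix.mul_smul, Matrix.smul_mul] at h1
    rw [Units.val_mul, Matrix.transpose_mul]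
    calc h'.1ᵀ * k.1ᵀ * JJ * (k.1 * h'.1) = h'.1ᵀ * B * h'.1 := by simp [hB, Matrix.mul_assoc]
      _ = (d : F) • (((d⁻¹ : Fˣ) : F) • (h'.1ᵀ * B * h'.1)) := by
          rw [smul_smul, Units.mul_inv, one_smul]
      _ = (d : F) • (-JJ) := by rw [hh', mapGL_coe, h1]
      _ = _ := by simp
  · rw [map_mul, hh'σ, hgk]; group

variable (m F) in
/-- The hypothesis used for the symplectic automorphism groups. -/
def PSpAutHyp : Prop := ringChar F ≠ 2 → Cfsg.gammaPSp m F = ⊤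

theorem inndiagPSp_eq :
    Cfsg.inndiagPSp m F
      = (conjAut spMat_injective (Cfsg.GSp m F) fun _ => keep_conj_GSp).range :=
  closure_isInd_eq_range _ _ _ _ isInd_innerDiag

theorem exists_sq_of_char_two [Finite F] (h2 : ringChar F = 2) (c : F) : ∃ d : F, d * d = c := by
  obtain ⟨d, hd⟩ := FiniteField.isSquare_of_char_two h2 c
  exact ⟨d, hd.symm⟩

/-- A similitude with square multiplier is a scalar times a symplectic matrix. -/
theorem eq_scal_mul_sp (hm : 0 < m) (g : Cfsg.GSp m F) :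
    (∃ d : Fˣ, mult hm g = d ^ 2) ↔ ∃ (a : Fˣ) (h : Matrix.symplecticGroup (Fin m) F),
      g.1 = scal a * spMat m F h := by
  constructor
  · rintro ⟨d, hd⟩
    have hmem : scal d⁻¹ * g.1 ∈ (spMat m F).range := by
      refine mem_spMat_range.2 ?_
      rw [Units.val_mul, scal_coe]
      simp only [smul_mul_assoc, one_mul, Matrix.transpose_smul, Matrix.mul_smul, mult_spec hm g,
        hd, smul_smul]
      push_cast
      rw [show (d : F)⁻¹ * ((d : F)⁻¹ * (d : F) ^ 2) = 1 by field_simp, one_smul]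
    obtain ⟨h, hh⟩ := hmem
    exact ⟨d, h, by rw [hh, ← mul_assoc, ← map_mul, mul_inv_cancel, map_one, one_mul]⟩
  · rintro ⟨a, h, e⟩
    refine ⟨a, mult_eq hm ?_⟩
    rw [e, Units.val_mul, scal_coe]
    simp only [smul_mul_assoc, one_mul, Matrix.transpose_smul, Matrix.mul_smul,
      mem_spMat_range.1 ⟨h, rfl⟩, smul_smul]
    simp [pow_two]

theorem inndiag_normal [Finite F] (hm : 0 < m) (hA : PSpAutHyp m F) (α : MulAut (Cfsg.PSp m F)) :
    α ∈ Subgroup.normalizer (Cfsg.inndiagPSp m F : Set (MulAut (Cfsg.PSp m F))) := by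
  have : Nonempty (Fin m ⊕ Fin m) := ⟨.inl ⟨0, hm⟩⟩
  rw [inndiagPSp_eq]
  by_cases h2 : ringChar F = 2
  · have hle : (conjAut spMat_injective (Cfsg.GSp m F) fun _ => keep_conj_GSp).range
        = Cfsg.Inn (Cfsg.PSp m F) := by
      refine le_antisymm ?_ (inn_le_range _ _ _ spMat_mem_GSp)
      rintro _ ⟨g, rfl⟩
      refine (conjAut_mem_inn_iff spRigid _ _ spMat_mem_GSp g).2 ((eq_scal_mul_sp hm g).1 ?_)
      obtain ⟨d, hd⟩ := exists_sq_of_char_two h2 (mult hm g : F)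
      have hd0 : d ≠ 0 := fun h => (mult hm g).ne_zero (by rw [← hd, h, mul_zero])
      exact ⟨Units.mk0 d hd0, Units.ext (by simp [pow_two, hd])⟩
    rw [hle]
    exact Subgroup.normalizer_eq_top (Cfsg.Inn (Cfsg.PSp m F)) ▸ Subgroup.mem_top α
  · have hle : Cfsg.gammaPSp m F ≤ Subgroup.normalizer
        ((conjAut spMat_injective (Cfsg.GSp m F) fun _ => keep_conj_GSp).range :
          Set (MulAut (Cfsg.PSp m F))) := by
      refine gamma_le_normalizer _ _ _ _ fun β ⟨g, σ, hg, hβ⟩ =>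
        ⟨⟨MulAut.conj g * galGL σ, mul_mem (keep_conj_GSp hg) (keep_gal σ)⟩, fun x => ?_,
          (isInd_semilinear g σ β).1 hβ⟩
      show g * galGL σ x * g⁻¹ ∈ Cfsg.GSp m F ↔ _
      rw [Subgroup.mul_mem_cancel_right _ (inv_mem hg), Subgroup.mul_mem_cancel_left _ hg]
      refine ⟨fun h => ?_, galGL_GSp σ⟩
      have := galGL_GSp σ⁻¹ h
      rwa [← MulAut.mul_apply, ← map_mul, inv_mul_cancel, map_one, MulAut.one_apply] at this
    exact hle (hA h2 ▸ Subgroup.mem_top α)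

/-- The field automorphism behind `x`, with its setup. -/
theorem psp_reduce [Finite F] (hm : 0 < m) (hA : PSpAutHyp m F) {x : MulAut (Cfsg.PSp m F)}
    (hx : Cfsg.IsFieldAutClassPSp x) {r : ℕ} (hr : r.Prime) (hxr : orderOf x = r) :
    ∃ (σ : F ≃+* F) (D : Setup (spMat m F) (Cfsg.GSp m F) σ r) (α : MulAut (Cfsg.PSp m F)),
      α ∈ Subgroup.normalizer (D.G : Set (MulAut (Cfsg.PSp m F))) ∧ α * x * α⁻¹ = D.phi ∧
      D.G = Cfsg.inndiagPSp m F := by
  have : Nonempty (Fin m ⊕ Fin m) := ⟨.inl ⟨0, hm⟩⟩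
  obtain ⟨α, σ, hσ1, hφ⟩ := hx
  have hφ' := (isInd_iff spMat_injective (keep_gal σ)).1 ((isInd_std σ _).1 hφ)
  have hord : orderOf σ = r := by
    refine @orderOf_eq_prime _ _ σ r ⟨hr⟩ ?_ hσ1
    refine galAut_eq_one spRigid (keep_gal _) (gal_faithful hm) ?_
    have h1 : (indAut (spMat_injective (m := m)) ⟨galGL σ, keep_gal σ⟩) ^ r = 1 := by
      rw [← hφ', ← MulAut.conj_apply, ← map_pow, ← hxr, pow_orderOf_eq_one, map_one]
    rw [← map_pow] at h1
    convert h1 using 2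
    exact Subtype.ext (map_pow galGL σ r)
  have D : Setup (spMat m F) (Cfsg.GSp m F) σ r :=
    ⟨spRigid, inferInstance, fun _ => keep_conj_GSp, keep_gal σ, fun _ => galGL_GSp σ, hord,
      hr.pos⟩
  have hG : D.G = Cfsg.inndiagPSp m F := inndiagPSp_eq.symm
  exact ⟨σ, D, α, hG ▸ inndiag_normal hm hA α, hφ', hG⟩

theorem psp_coset_conj [Finite F] (hm : 0 < m) (hA : PSpAutHyp m F)
    {x δ : MulAut (Cfsg.PSp m F)} (hx : Cfsg.IsFieldAutClassPSp x) {r : ℕ} (hr : r.Prime)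
    (hxr : orderOf x = r) (hδ : δ ∈ Cfsg.inndiagPSp m F) :
    orderOf (δ * x) = r ↔ Cfsg.IsConjUnder (Cfsg.inndiagPSp m F) x (δ * x) := by
  obtain ⟨σ, D, α, hα, hαx, hG⟩ := psp_reduce hm hA hx hr hxr
  rw [← hG] at hδ ⊢
  exact coset_conj_transport hα hαx
    (fun δ hδ h => D.coset_conj (fun g hg => psp_desc hm D.ordσ D.rpos hg) hδ h) hxr hδ

theorem psp_centralizer_and_split [Fintype F] {p f : ℕ} (hp : p.Prime)
    (hF : Fintype.card F = p ^ f) (hm : 0 < m) (hA : PSpAutHyp m F)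
    {x : MulAut (Cfsg.PSp m F)} (hx : Cfsg.IsFieldAutClassPSp x) {r : ℕ} (hr : r.Prime)
    (hxr : orderOf x = r) (F₀ : Type*) [Field F₀] [Fintype F₀]
    (hF₀ : Fintype.card F₀ = p ^ (f / r)) :
    r ∣ f ∧ Nonempty (↥(Cfsg.inndiagPSp m F ⊓ Subgroup.centralizer {x}) ≃* Cfsg.PGSp m F₀) ∧
      Cfsg.splitClassCount (Cfsg.inndiagPSp m F) (Cfsg.Inn (Cfsg.PSp m F)) x
        = Nat.gcd (Nat.gcd 2 (p ^ f - 1)) r := by
  classical
  have : Nonempty (Fin m ⊕ Fin m) := ⟨.inl ⟨0, hm⟩⟩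
  obtain ⟨σ, D, α, hα, hαx, hG⟩ := psp_reduce hm hA hx hr hxr
  obtain ⟨hrf, hQ, hfix⟩ := order_data hp hF D.ordσ D.rpos
  obtain ⟨e, he⟩ := exists_embedding_fixed σ D.ordσ D.rpos hQ F₀ hF₀
  have hfixe : ∀ x, σ (e x) = e x := fun x => (he _).1 ⟨x, rfl⟩
  have hmap : ∀ g ∈ Cfsg.GSp m F₀, mapGL e g ∈ Cfsg.GSp m F := by
    intro g hg
    obtain ⟨c, hc⟩ := mem_GSp_iff.1 hg
    refine mem_GSp_iff.2 ⟨Units.map e.toMonoidHom c, ?_⟩
    have h1 := congrArg (fun X => e.mapMatrix X) hc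
    simp only [map_mul, RingHom.mapMatrix_apply, Matrix.transpose_map] at h1
    rw [J_map'] at h1
    rw [mapGL_coe, h1]
    ext i j
    simp only [Matrix.map_apply, Matrix.smul_apply, smul_eq_mul, map_mul]
    rw [← congrFun (congrFun (J_map' (m := m) e) i) j]
    rfl
  have hsurj : ∀ g ∈ Cfsg.GSp m F, (∃ a : Fˣ, galGL σ g = scal a * g) →
      ∃ g₀ ∈ Cfsg.GSp m F₀, ∃ a : Fˣ, g = scal a * mapGL e g₀ := by
    intro g hg ⟨a, ha⟩
    obtain ⟨g₀, b, hgb⟩ := exists_mapGL_of_twist D.ordσ D.rpos e (fun x h => (he x).2 h) ha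
    refine ⟨g₀, ?_, b, hgb⟩
    have hg' : mapGL e g₀ ∈ Cfsg.GSp m F :=
      (Subgroup.mul_mem_cancel_left _ (scal_mem_GSp b)).1 (hgb ▸ hg)
    obtain ⟨c, hc⟩ := mem_GSp_iff.1 hg'
    rw [mapGL_coe] at hc
    have hc' : (g₀.1ᵀ * Matrix.J (Fin m) F₀ * g₀.1).map e = (c : F) • JJ := by
      rw [← hc, ← J_map' e, ← Matrix.transpose_map, ← Matrix.map_mul, ← Matrix.map_mul]
    obtain ⟨c₀, hc₀⟩ : (c : F) ∈ Set.range e := by
      refine ⟨(g₀.1ᵀ * Matrix.J (Fin m) F₀ * g₀.1) (.inr ⟨0, hm⟩) (.inl ⟨0, hm⟩), ?_⟩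
      have := congrFun (congrFun hc' (.inr ⟨0, hm⟩)) (.inl ⟨0, hm⟩)
      simpa [Matrix.J] using this
    have hc0 : c₀ ≠ 0 := fun h => c.ne_zero (by rw [← hc₀, h, map_zero])
    refine mem_GSp_iff.2 ⟨Units.mk0 c₀ hc0, ?_⟩
    ext i j
    apply e.injective
    have := congrFun (congrFun hc' i) j
    rw [Matrix.map_apply] at this
    rw [this, Units.val_mk0, Matrix.smul_apply, Matrix.smul_apply, smul_eq_mul, smul_eq_mul,
      map_mul, hc₀]
    exact congrArg _ (congrFun (congrFun (J_map' (m := m) e) i) j).symm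
  obtain ⟨E⟩ := D.centralizerEquiv e hfixe _ hmap hsurj
  -- the class splitting
  let sq : Subgroup Fˣ := (powMonoidHom 2 : Fˣ →* Fˣ).range
  let χ : Cfsg.GSp m F →* Fˣ ⧸ sq := (QuotientGroup.mk' sq).comp (mult hm)
  have hker : ∀ g, χ g = 1 ↔
      conjAut D.rigid.inj _ D.keepS g ∈ Cfsg.Inn (Cfsg.PSp m F) := by
    intro g
    rw [show χ g = QuotientGroup.mk (mult hm g) from rfl, QuotientGroup.eq_one_iff,
      conjAut_mem_inn_iff D.rigid _ _ spMat_mem_GSp, ← eq_scal_mul_sp hm]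
    exact ⟨fun ⟨d, hd⟩ => ⟨d, hd.symm⟩, fun ⟨d, hd⟩ => ⟨d, hd.symm⟩⟩
  have hsplit := D.splitClassCount_eq χ (inn_le_range _ _ _ spMat_mem_GSp) hker
  have himg : D.fixS.map χ = (fixedUnits σ).map (QuotientGroup.mk' sq) := by
    ext y
    constructor
    · rintro ⟨g, hg, rfl⟩
      obtain ⟨g₀, hg₀, b, hgb⟩ := hsurj g.1 g.2 (D.mem_fixS.1 hg)
      obtain ⟨c₀, hc₀⟩ := mem_GSp_iff.1 hg₀
      refine ⟨Units.map e.toMonoidHom c₀, hfixe _, ?_⟩
      have hmult : mult hm g = b ^ 2 * Units.map e.toMonoidHom c₀ := by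
        refine mult_eq hm ?_
        have h1 := congrArg (fun X => e.mapMatrix X) hc₀
        simp only [map_mul, RingHom.mapMatrix_apply, Matrix.transpose_map] at h1
        rw [J_map'] at h1
        have h2 : ((c₀ : F₀) • Matrix.J (Fin m) F₀).map e = e (c₀ : F₀) • JJ := by
          ext i j
          simp only [Matrix.map_apply, Matrix.smul_apply, smul_eq_mul, map_mul]
          rw [← congrFun (congrFun (J_map' (m := m) e) i) j]; rfl
        rw [hgb, Units.val_mul, scal_coe, mapGL_coe]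
        simp only [smul_mul_assoc, one_mul, Matrix.transpose_smul, Matrix.mul_smul, h1, h2,
          smul_smul]
        congr 1
        simp [pow_two, mul_assoc]
      show _ = QuotientGroup.mk (mult hm g)
      rw [hmult, QuotientGroup.mk'_apply, QuotientGroup.eq]
      exact ⟨b, by simp [mul_comm]⟩
    · rintro ⟨c, hc, rfl⟩
      obtain ⟨g, hg1, hg2⟩ := exists_diag_GSp (m := m) c
      refine ⟨⟨g, mem_GSp_iff.2 ⟨c, hg2⟩⟩, D.mem_fixS.2 ⟨1, ?_⟩, ?_⟩
      · rw [map_one, one_mul]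
        refine Units.ext ?_
        rw [galGL_apply_coe, hg1, Matrix.fromBlocks_map,
          Matrix.map_one _ (map_zero σ) (map_one σ)]
        congr 1 <;> ext i j <;> simp [Matrix.one_apply, mem_fixedUnits.1 hc, apply_ite σ]
      · show QuotientGroup.mk (mult hm _) = _
        rw [mult_mk hm g c hg2]; rfl
  have hrange : χ.range = ⊤ := by
    rw [MonoidHom.range_eq_top]
    intro y
    obtain ⟨c, rfl⟩ := QuotientGroup.mk_surjective y
    obtain ⟨g, -, hg2⟩ := exists_diag_GSp (m := m) c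
    exact ⟨⟨g, mem_GSp_iff.2 ⟨c, hg2⟩⟩, by
      show QuotientGroup.mk (mult hm _) = _
      rw [mult_mk hm g c hg2]⟩
  rw [himg, hrange, Subgroup.relIndex_top_right, Subgroup.index_map,
    MonoidHom.range_eq_top.2 (QuotientGroup.mk'_surjective sq), Subgroup.index_top, mul_one,
    QuotientGroup.ker_mk', sup_comm, index_pow_sup] at hsplit
  have hf : 0 < f := by
    rcases Nat.eq_zero_or_pos f with rfl | h
    · exact absurd hF (by simpa using (Fintype.one_lt_card (α := F)).ne')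
    · exact h
  have hidx : (fixedUnits σ).index * (p ^ (f / r) - 1) = p ^ f - 1 := by
    have hcard : Nat.card (fixedUnits σ) = p ^ (f / r) - 1 := by
      rw [← hfix, ← Nat.card_units]
      exact Nat.card_congr
        { toFun := fun u => Units.mk0 ⟨(u.1 : F), (mem_fixF σ).2 u.2⟩
            (fun h => u.1.ne_zero (congrArg Subtype.val h))
          invFun := fun v => ⟨Units.mk0 (v.1.1 : F) (fun h => v.ne_zero (Subtype.ext h)),
            (mem_fixF σ).1 v.1.2⟩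
          left_inv := fun u => Subtype.ext (Units.ext rfl)
          right_inv := fun v => Units.ext (Subtype.ext rfl) }
    rw [← hcard, Subgroup.index_mul_card, Nat.card_units, Nat.card_eq_fintype_card, hF]
  rw [gcd_two_geom hp hrf hr.pos hf hidx] at hsplit
  rw [← hG]
  refine ⟨hrf, ⟨(centralizerConjEquiv hα hαx).trans E⟩, ?_⟩
  rw [splitClassCount_conj hα hαx]
  exact hsplit

end Cfsg.Agent.FieldAut
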